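import Mathlib

/-!
# Odd-product graph on a class of involutions of `S_n` (library for S3265)

Basic definitions: the `W`-relative solvability predicate `Good`, the exceptional configuration
`Bad`, and the cycle-insertion lemma `odd_orderOf_insert_two`.
-/

set_option autoImplicit false

namespace Cfsg.Agent.Helper59.OddInv

open Equiv Equiv.Perm

variable {α : Type*} [Fintype α] [DecidableEq α]

/-- `Good W x y`: there is an involution `z` supported in `W`, moving as many points as `y`,
with `x * z` and `z * y` of odd order. -/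
def Good (W : Finset α) (x y : Perm α) : Prop :=
  ∃ z : Perm α, z * z = 1 ∧ z.support ⊆ W ∧ z.support.card = y.support.card ∧
    Odd (orderOf (x * z)) ∧ Odd (orderOf (z * y))

/-- The exceptional configuration: `W` has four points, `x`, `y` are fixed-point-free on `W`
and share no transposition (so `x`, `y` generate a Klein four-group regular on `W`). -/
def Bad (W : Finset α) (x y : Perm α) : Prop :=
  W.card = 4 ∧ (∀ a ∈ W, x a ≠ a) ∧ (∀ a ∈ W, y a ≠ a) ∧ (∀ a ∈ W, x a ≠ y a)

theorem odd_orderOf_of_pow_eq_one {G : Type*} [Monoid G] (g : G) (k : ℕ) (hk : Odd k)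
    (h : g ^ k = 1) : Odd (orderOf g) :=
  Odd.of_dvd_nat hk (orderOf_dvd_of_pow_eq_one h)

theorem invol_apply {x : Perm α} (hx : x * x = 1) (a : α) : x (x a) = a := by
  have := congrArg (fun f : Perm α => f a) hx
  simpa using this

theorem invol_inv {x : Perm α} (hx : x * x = 1) : x⁻¹ = x :=
  inv_eq_of_mul_eq_one_left hx

theorem apply_mem_of_mem_of_support_subset {x : Perm α} (hx : x * x = 1) {W : Finset α}
    (hW : x.support ⊆ W) {a : α} (ha : a ∈ W) : x a ∈ W := by
  by_cases h : x a = a
  · rw [h]; exact ha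
  · apply hW
    rw [Perm.mem_support]
    intro h2
    exact h (by rw [invol_apply hx] at h2; exact h2.symm)

theorem Good.symm {W : Finset α} {x y : Perm α} (hx : x * x = 1) (hy : y * y = 1)
    (hc : x.support.card = y.support.card) (h : Good W x y) : Good W y x := by
  obtain ⟨z, hz, hzW, hzc, h1, h2⟩ := h
  refine ⟨z, hz, hzW, hzc.trans hc.symm, ?_, ?_⟩
  · have : y * z = (z * y)⁻¹ := by
      rw [mul_inv_rev, invol_inv hy, invol_inv hz]
    rw [this, orderOf_inv]; exact h2
  · have : z * x = (x * z)⁻¹ := by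
      rw [mul_inv_rev, invol_inv hx, invol_inv hz]
    rw [this, orderOf_inv]; exact h1

theorem good_empty : Good (∅ : Finset α) (1 : Perm α) 1 :=
  ⟨1, by simp, by simp, rfl, by simp, by simp⟩

theorem eq_one_of_support_subset_empty {x : Perm α} (h : x.support ⊆ (∅ : Finset α)) : x = 1 := by
  rw [← Perm.support_eq_empty_iff]
  exact Finset.subset_empty.mp h

theorem Good.mono {W W' : Finset α} {x y : Perm α} (hWW : W' ⊆ W) (h : Good W' x y) :
    Good W x y := by
  obtain ⟨z, hz, hzW, hzc, h1, h2⟩ := h
  exact ⟨z, hz, hzW.trans hWW, hzc, h1, h2⟩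

/-- Inserting two fixed points `p`, `q` of `r` into the cycle of `r` through `s` keeps the order
odd: `τ` is the 3-cycle `s ↦ p ↦ q ↦ s`. -/
theorem odd_orderOf_insert_two (r τ : Perm α) (s p q : α) (hsp : s ≠ p) (hsq : s ≠ q)
    (hpq : p ≠ q) (hrp : r p = p) (hrq : r q = q) (hτs : τ s = p) (hτp : τ p = q)
    (hτq : τ q = s) (hτo : ∀ a, a ≠ s → a ≠ p → a ≠ q → τ a = a) (hr : Odd (orderOf r)) :
    Odd (orderOf (r * τ)) := by
  set σ := r * τ with hσ
  set k := Function.minimalPeriod r s with hk
  have hper : Function.IsPeriodicPt r (orderOf r) s := by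
    show (r : α → α)^[orderOf r] s = s
    rw [Perm.iterate_eq_pow, pow_orderOf_eq_one]; rfl
  have hkdvd : k ∣ orderOf r := hper.minimalPeriod_dvd
  have hkodd : Odd k := Odd.of_dvd_nat hr hkdvd
  have hkpos : 0 < k := hkodd.pos
  have hrk : (r ^ k) s = s := by
    have := Function.isPeriodicPt_minimalPeriod r s
    rw [Function.IsPeriodicPt, Function.IsFixedPt, Perm.iterate_eq_pow] at this
    exact this
  -- powers of `r` fix `p` and `q`
  have hrpow_p : ∀ i : ℕ, (r ^ i) p = p := by
    intro i; induction i with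
    | zero => simp
    | succ i ih => rw [pow_succ', Perm.mul_apply, ih, hrp]
  have hrpow_q : ∀ i : ℕ, (r ^ i) q = q := by
    intro i; induction i with
    | zero => simp
    | succ i ih => rw [pow_succ', Perm.mul_apply, ih, hrq]
  have hσs : σ s = p := by rw [hσ, Perm.mul_apply, hτs, hrp]
  have hσp : σ p = q := by rw [hσ, Perm.mul_apply, hτp, hrq]
  have hσq : σ q = r s := by rw [hσ, Perm.mul_apply, hτq]
  -- the points `r^i s`, `1 ≤ i < k`, are not among `s, p, q`
  have hmid : ∀ i : ℕ, 1 ≤ i → i < k → σ ((r ^ i) s) = (r ^ (i + 1)) s := by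
    intro i hi1 hik
    have h1 : (r ^ i) s ≠ s := by
      intro h
      have hp : Function.IsPeriodicPt r i s := by
        show (r : α → α)^[i] s = s
        rw [Perm.iterate_eq_pow]; exact h
      exact Function.not_isPeriodicPt_of_pos_of_lt_minimalPeriod (by omega) hik hp
    have h2 : (r ^ i) s ≠ p := by
      intro h
      have : (r ^ i) s = (r ^ i) p := by rw [h, hrpow_p]
      exact hsp ((r ^ i).injective this)
    have h3 : (r ^ i) s ≠ q := by
      intro h
      have : (r ^ i) s = (r ^ i) q := by rw [h, hrpow_q]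
      exact hsq ((r ^ i).injective this)
    rw [hσ, Perm.mul_apply, hτo _ h1 h2 h3, pow_succ', Perm.mul_apply]
  have hwalk : ∀ j : ℕ, j + 1 ≤ k → (σ ^ j) (r s) = (r ^ (j + 1)) s := by
    intro j; induction j with
    | zero => intro _; simp
    | succ j ih =>
      intro hj
      rw [pow_succ', Perm.mul_apply, ih (by omega), hmid (j + 1) (by omega) (by omega)]
  have hσk : (σ ^ (k + 2)) s = s := by
    have h3 : (σ ^ 3) s = r s := by
      have e3 : σ ^ 3 = σ * (σ * σ) := by
        rw [pow_succ', pow_two]
      have e4 : (σ * (σ * σ)) s = σ (σ (σ s)) := rfl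
      rw [e3, e4, hσs, hσp, hσq]
    have : k + 2 = (k - 1) + 3 := by omega
    rw [this, pow_add, Perm.mul_apply, h3, hwalk (k - 1) (by omega)]
    have : k - 1 + 1 = k := by omega
    rw [this, hrk]
  set M := orderOf r * (k + 2) with hM
  have hModd : Odd M := hr.mul (by
    obtain ⟨t, ht⟩ := hkodd
    exact ⟨t + 1, by omega⟩)
  have hσM : σ ^ M = 1 := by
    ext a
    rw [Perm.one_apply]
    by_cases h : ∃ j : ℤ, a = (σ ^ j) s
    · obtain ⟨j, rfl⟩ := h
      have h1 : (σ ^ (k + 2)) ((σ ^ j) s) = (σ ^ j) s := by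
        rw [← Perm.mul_apply, ← zpow_natCast, ← zpow_add, add_comm, zpow_add, Perm.mul_apply,
          zpow_natCast, hσk]
      have h2 : ∀ n : ℕ, ((σ ^ (k + 2)) ^ n) ((σ ^ j) s) = (σ ^ j) s := by
        intro n; induction n with
        | zero => simp
        | succ n ih => rw [pow_succ', Perm.mul_apply, ih, h1]
      rw [hM, mul_comm, pow_mul]
      exact h2 _
    · have hkey : ∀ i : ℕ, (σ ^ i) a = (r ^ i) a := by
        intro i; induction i with
        | zero => simp
        | succ i ih =>
          rw [pow_succ', Perm.mul_apply, ih]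
          have hu1 : (r ^ i) a ≠ s := by
            intro hu
            apply h
            refine ⟨-(i : ℤ), ?_⟩
            rw [← hu, ← ih, ← Perm.mul_apply, zpow_neg, zpow_natCast, inv_mul_cancel,
              Perm.one_apply]
          have hu2 : (r ^ i) a ≠ p := by
            intro hu
            apply h
            refine ⟨-(i : ℤ) + 1, ?_⟩
            rw [zpow_add, zpow_one, Perm.mul_apply, hσs, ← hu, ← ih, ← Perm.mul_apply, zpow_neg,
              zpow_natCast, inv_mul_cancel, Perm.one_apply]
          have hu3 : (r ^ i) a ≠ q := by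
            intro hu
            apply h
            refine ⟨-(i : ℤ) + 2, ?_⟩
            have h2 : (σ ^ (2 : ℤ)) s = q := by
              rw [show (2 : ℤ) = ((2 : ℕ) : ℤ) from rfl, zpow_natCast, pow_two, Perm.mul_apply,
                hσs, hσp]
            rw [zpow_add, Perm.mul_apply, h2, ← hu, ← ih, ← Perm.mul_apply, zpow_neg,
              zpow_natCast, inv_mul_cancel, Perm.one_apply]
          rw [hσ, Perm.mul_apply, hτo _ hu1 hu2 hu3, pow_succ', Perm.mul_apply]
      rw [hkey, hM, pow_mul, pow_orderOf_eq_one, one_pow, Perm.one_apply]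
  exact odd_orderOf_of_pow_eq_one σ M hModd hσM

end Cfsg.Agent.Helper59.OddInv
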