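import Cfsg.Agent.Helper59.OddInv.Reduce

/-!
# The contraction step (library for S3265)

A path `a -x- b -y- c -x- d -y- e -x- f` of six distinct points is contracted to the `x`-edge
`a -x- f`, removing `b, c, d, e`.
-/

set_option autoImplicit false
set_option maxRecDepth 100000

namespace Cfsg.Agent.Helper59.OddInv

open Equiv Equiv.Perm

variable {α : Type*} [Fintype α] [DecidableEq α]

theorem contract_identity {G : Type*} [Group G] (x1 L0 L5 C1 C2 T zp : G) (hz : zp * zp = 1)
    (hcomm : zp * T = T * zp) (hid : L0 * T = L5 * C1 * C2) :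
    x1 * L0 * (zp * T) = (x1 * L5 * zp) * (zp * C1 * zp) * (zp * C2 * zp) := by
  have h1 : (x1 * L5 * zp) * (zp * C1 * zp) * (zp * C2 * zp) = x1 * (L5 * C1 * C2) * zp := by
    calc (x1 * L5 * zp) * (zp * C1 * zp) * (zp * C2 * zp)
        = x1 * L5 * (zp * zp) * C1 * (zp * zp) * C2 * zp := by simp only [mul_assoc]
      _ = x1 * (L5 * C1 * C2) * zp := by rw [hz]; simp only [mul_one, mul_assoc]
  rw [h1, ← hid, hcomm]
  simp only [mul_assoc]

theorem conj_cyc {z : Perm α} (hz : z * z = 1) (u v w : α) :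
    z * (swap u v * swap v w) * z = swap (z u) (z v) * swap (z v) (z w) := by
  rw [swap_apply_apply, swap_apply_apply, invol_inv hz]
  calc z * (swap u v * swap v w) * z
      = z * swap u v * 1 * swap v w * z := by simp only [mul_one, mul_assoc]
    _ = z * swap u v * (z * z) * swap v w * z := by rw [hz]
    _ = z * swap u v * z * (z * swap v w * z) := by simp only [mul_assoc]

omit [Fintype α] in
theorem cyc_apply_of_ne (p q s u : α) (h1 : u ≠ p) (h2 : u ≠ q) (h3 : u ≠ s) :
    (swap p q * swap q s) u = u := by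
  rw [Perm.mul_apply, swap_apply_of_ne_of_ne h2 h3, swap_apply_of_ne_of_ne h1 h2]

theorem mul_lift_invol {m : ℕ} (ι : Fin m ↪ α) {W : Finset α} {z' : Perm α} {e : Perm (Fin m)}
    (hz' : z' * z' = 1) (he : e * e = 1)
    (hz'W : z'.support ⊆ W \ (Finset.univ : Finset (Fin m)).map ι) (hιW : ∀ i, ι i ∈ W) :
    (z' * lift ι e) * (z' * lift ι e) = 1 ∧ (z' * lift ι e).support ⊆ W ∧
      (z' * lift ι e).support.card = z'.support.card + e.support.card := by
  have hdz : Perm.Disjoint z' (lift ι e) := disjoint_lift_of_support ι hz'W e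
  refine ⟨?_, ?_, ?_⟩
  · have hcomm := hdz.commute.eq
    calc z' * lift ι e * (z' * lift ι e)
        = z' * (lift ι e * z') * lift ι e := by simp only [mul_assoc]
      _ = z' * (z' * lift ι e) * lift ι e := by rw [hcomm]
      _ = (z' * z') * (lift ι e * lift ι e) := by simp only [mul_assoc]
      _ = 1 := by rw [hz', ← lift_mul, he, lift_one, one_mul]
  · intro a ha
    have := Perm.support_mul_le _ _ ha
    rw [Finset.sup_eq_union, Finset.mem_union] at this
    rcases this with h | h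
    · exact (Finset.mem_sdiff.mp (hz'W h)).1
    · rw [support_lift, Finset.mem_map] at h
      obtain ⟨i, _, rfl⟩ := h
      exact hιW i
  · rw [hdz.card_support_mul, card_support_lift]

/-- R4: contraction of a path with five edges. -/
theorem step_contract {W : Finset α} {x y : Perm α} (hx : x * x = 1) (hy : y * y = 1)
    (hxW : x.support ⊆ W) (hyW : y.support ⊆ W) (hc : x.support.card = y.support.card)
    {a b c d e f : α} (ha : a ∈ W) (hnd : [a, b, c, d, e, f].Nodup)
    (hab : x a = b) (hbc : y b = c) (hcd : x c = d) (hde : y d = e) (hef : x e = f) :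
    Step W x y := by
  have hnd' := hnd
  simp only [List.nodup_cons, List.mem_cons, List.not_mem_nil, or_false, not_or,
    List.nodup_nil, and_true, not_false_eq_true] at hnd'
  obtain ⟨⟨nab, nac, nad, nae, naf⟩, ⟨nbc, nbd, nbe, nbf⟩, ⟨ncd, nce, ncf⟩, ⟨nde, ndf⟩, nef⟩ :=
    hnd'
  have hba : x b = a := by rw [← hab]; exact invol_apply hx a
  have hdc : x d = c := by rw [← hcd]; exact invol_apply hx c
  have hfe : x f = e := by rw [← hef]; exact invol_apply hx e
  have hcb : y c = b := by rw [← hbc]; exact invol_apply hy b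
  have hed : y e = d := by rw [← hde]; exact invol_apply hy d
  have hbW : b ∈ W := hab ▸ apply_mem_of_mem_of_support_subset hx hxW ha
  have hcW : c ∈ W := hbc ▸ apply_mem_of_mem_of_support_subset hy hyW hbW
  have hdW : d ∈ W := hcd ▸ apply_mem_of_mem_of_support_subset hx hxW hcW
  have heW : e ∈ W := hde ▸ apply_mem_of_mem_of_support_subset hy hyW hdW
  have hfW : f ∈ W := hef ▸ apply_mem_of_mem_of_support_subset hx hxW heW
  have hnd4 : [b, c, d, e].Nodup := by simp [nbc, nbd, nbe, ncd, nce, nde]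
  have hinj6 : Function.Injective ![a, b, c, d, e, f] := List.nodup_ofFn.mp hnd
  have hinj4 : Function.Injective ![b, c, d, e] := List.nodup_ofFn.mp hnd4
  set ι₆ := embOfVec ![a, b, c, d, e, f] hinj6 with hι₆
  set ι₄ := embOfVec ![b, c, d, e] hinj4 with hι₄
  set x06 : Perm (Fin 6) := swap 0 1 * swap 2 3 * swap 4 5 with hx06
  set t06 : Perm (Fin 6) := swap 1 2 * swap 3 4 with ht06
  set y04 : Perm (Fin 4) := swap 0 1 * swap 2 3 with hy04
  have dx06 : x06 * x06 = 1 := by decide
  have dy04 : y04 * y04 = 1 := by decide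
  have ds05 : (swap 0 5 : Perm (Fin 6)) * swap 0 5 = 1 := by decide
  have cx06 : x06.support.card = 6 := by decide
  have cy04 : y04.support.card = 4 := by decide
  have cs05 : (swap 0 5 : Perm (Fin 6)).support.card = 2 := by decide
  have did : x06 * t06 = swap 0 5 * (swap 1 3 * swap 3 0) * (swap 4 2 * swap 2 5) := by decide
  have hx6 : ∀ i, x (ι₆ i) = ι₆ (x06 i) := by
    intro i
    fin_cases i <;> first | rfl | assumption
  have hy4 : ∀ i, y (ι₄ i) = ι₄ (y04 i) := by
    intro i
    fin_cases i <;> first | rfl | assumption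
  have hι₄W : ∀ i, ι₄ i ∈ W := by
    intro i
    fin_cases i <;> assumption
  have hr46 : ∀ u, u ∈ Set.range ι₄ → u ∈ Set.range ι₆ := by
    rintro u ⟨i, rfl⟩
    fin_cases i
    · exact ⟨1, rfl⟩
    · exact ⟨2, rfl⟩
    · exact ⟨3, rfl⟩
    · exact ⟨4, rfl⟩
  have hnr4 : ∀ u, u ≠ b → u ≠ c → u ≠ d → u ≠ e → u ∉ Set.range ι₄ := by
    rintro u h1 h2 h3 h4 ⟨i, hi⟩
    fin_cases i
    · exact h1 hi.symm
    · exact h2 hi.symm
    · exact h3 hi.symm
    · exact h4 hi.symm
  have hnr6 : ∀ u, u ≠ a → u ≠ f → u ∉ Set.range ι₄ → u ∉ Set.range ι₆ := by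
    rintro u h1 h2 h3 ⟨i, hi⟩
    fin_cases i
    · exact h1 hi.symm
    · exact h3 ⟨0, hi⟩
    · exact h3 ⟨1, hi⟩
    · exact h3 ⟨2, hi⟩
    · exact h3 ⟨3, hi⟩
    · exact h2 hi.symm
  have hmemW' : ∀ u, u ∈ W \ (Finset.univ : Finset (Fin 4)).map ι₄ ↔ u ∈ W ∧ u ∉ Set.range ι₄ := by
    intro u
    rw [Finset.mem_sdiff, mem_map_univ_iff]
  have haW' : a ∈ W \ (Finset.univ : Finset (Fin 4)).map ι₄ :=
    (hmemW' a).mpr ⟨ha, hnr4 a nab nac nad nae⟩
  have hfW' : f ∈ W \ (Finset.univ : Finset (Fin 4)).map ι₄ :=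
    (hmemW' f).mpr ⟨hfW, hnr4 f (Ne.symm nbf) (Ne.symm ncf) (Ne.symm ndf) (Ne.symm nef)⟩
  -- the reduced involutions
  set x₁ := red ι₆ x x06 with hx₁
  set L5 := lift ι₆ (swap 0 5) with hL5
  set y' := red ι₄ y y04 with hy'
  have hdx : ∀ e, Perm.Disjoint x₁ (lift ι₆ e) := red_disjoint_lift ι₆ dx06 hx6
  have hx₁2 : x₁ * x₁ = 1 := red_mul_self ι₆ hx dx06 hx6
  have hL52 : L5 * L5 = 1 := by rw [hL5, ← lift_mul, ds05, lift_one]
  have hx'2 : (x₁ * L5) * (x₁ * L5) = 1 := by
    have hcomm := (hdx (swap 0 5)).commute.eq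
    calc x₁ * L5 * (x₁ * L5) = x₁ * (L5 * x₁) * L5 := by simp only [mul_assoc]
      _ = x₁ * (x₁ * L5) * L5 := by rw [hcomm]
      _ = (x₁ * x₁) * (L5 * L5) := by simp only [mul_assoc]
      _ = 1 := by rw [hx₁2, hL52, one_mul]
  have hy'2 : y' * y' = 1 := red_mul_self ι₄ hy dy04 hy4
  have hx'6 : ∀ i, (x₁ * L5) (ι₆ i) = ι₆ ((swap 0 5 : Perm (Fin 6)) i) := by
    intro i
    rw [Perm.mul_apply, hL5, lift_apply, hx₁, red_apply_emb ι₆ dx06 hx6]
  have hx'a : (x₁ * L5) a = f := hx'6 0
  have hx'f : (x₁ * L5) f = a := hx'6 5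
  have hx'b : (x₁ * L5) b = b := hx'6 1
  have hx'c : (x₁ * L5) c = c := hx'6 2
  have hx'd : (x₁ * L5) d = d := hx'6 3
  have hx'e : (x₁ * L5) e = e := hx'6 4
  have hx'o : ∀ u, u ∉ Set.range ι₆ → (x₁ * L5) u = x u := by
    intro u hu
    rw [Perm.mul_apply, hL5, lift_apply_of_notMem ι₆ _ hu, hx₁, red_apply_of_notMem ι₆ hu]
  have hx'W : (x₁ * L5).support ⊆ W \ (Finset.univ : Finset (Fin 4)).map ι₄ := by
    intro u hu
    have := Perm.support_mul_le _ _ hu
    rw [Finset.sup_eq_union, Finset.mem_union] at this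
    rcases this with h | h
    · have h1 := red_support_subset ι₆ dx06 hx6 hxW h
      rw [Finset.mem_sdiff, mem_map_univ_iff] at h1
      exact (hmemW' u).mpr ⟨h1.1, fun h2 => h1.2 (hr46 u h2)⟩
    · rw [hL5, support_lift, Finset.mem_map] at h
      obtain ⟨i, hi, rfl⟩ := h
      fin_cases i
      · exact haW'
      · exact absurd hi (by decide)
      · exact absurd hi (by decide)
      · exact absurd hi (by decide)
      · exact absurd hi (by decide)
      · exact hfW'
  have hy'W : y'.support ⊆ W \ (Finset.univ : Finset (Fin 4)).map ι₄ :=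
    red_support_subset ι₄ dy04 hy4 hyW
  have hcard : (x₁ * L5).support.card = y'.support.card := by
    have h1 := red_card ι₆ dx06 hx6
    have h2 := red_card ι₄ dy04 hy4
    rw [← hx₁, cx06] at h1
    rw [← hy', cy04] at h2
    rw [(hdx (swap 0 5)).card_support_mul, card_support_lift, cs05]
    omega
  refine ⟨W \ (Finset.univ : Finset (Fin 4)).map ι₄, x₁ * L5, y', ?_, hx'2, hy'2, hx'W, hy'W,
    hcard, ?_, ?_⟩
  · apply Finset.card_lt_card
    apply Finset.sdiff_ssubset
    · intro u hu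
      rw [Finset.mem_map] at hu
      obtain ⟨i, _, rfl⟩ := hu
      exact hι₄W i
    · exact ⟨ι₄ 0, Finset.mem_map_of_mem _ (Finset.mem_univ _)⟩
  · -- exceptional remainder: an alternating 8-cycle
    intro hbad
    obtain ⟨hC, hall, hin⟩ := bad_isC4 hx'2 hy'2 hx'W hy'W hbad haW'
    have hfr : f ∉ Set.range ι₄ := ((hmemW' f).mp hfW').2
    have h2 : y' f = y f := red_apply_of_notMem ι₄ hfr
    unfold IsC4 at hC
    rw [hx'a, h2] at hC hall hin
    have hgW' := hin (y f) (by simp)
    have hgr : y f ∉ Set.range ι₄ := ((hmemW' _).mp hgW').2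
    have hgaf : y f ≠ a ∧ y f ≠ f := by
      have := hC.1
      simp only [List.nodup_cons, List.mem_cons, List.not_mem_nil, or_false, not_or,
        List.nodup_nil, and_true, not_false_eq_true] at this
      obtain ⟨⟨m1, m2, m3⟩, ⟨m4, m5⟩, m6⟩ := this
      exact ⟨Ne.symm m2, Ne.symm m4⟩
    obtain ⟨hga, hgf⟩ := hgaf
    have h3 : (x₁ * L5) (y f) = x (y f) := hx'o _ (hnr6 _ hga hgf hgr)
    rw [h3] at hC hall hin
    have hhW' := hin (x (y f)) (by simp)
    have hhr : x (y f) ∉ Set.range ι₄ := ((hmemW' _).mp hhW').2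
    have h4 : y' (x (y f)) = y (x (y f)) := red_apply_of_notMem ι₄ hhr
    rw [h4] at hC
    obtain ⟨hCnd, hC2⟩ := hC
    have r1 : x (x (y f)) = y f := invol_apply hx _
    have r2 : y (y f) = f := invol_apply hy _
    have r3 : y a = x (y f) := by rw [← hC2]; exact invol_apply hy _
    have hnd8 : [b, c, d, e, a, f, y f, x (y f)].Nodup :=
      nodup_ofFn_append ι₄ _ hCnd (fun u hu => ((hmemW' u).mp (hin u hu)).2)
    have hinj8 : Function.Injective ![b, c, d, e, a, f, y f, x (y f)] := List.nodup_ofFn.mp hnd8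
    have hmemW8 : ∀ u ∈ [b, c, d, e, a, f, y f, x (y f)], u ∈ W := by
      intro u hu
      have : u ∈ [b, c, d, e] ++ [a, f, y f, x (y f)] := hu
      rcases List.mem_append.mp this with h | h
      · simp only [List.mem_cons, List.not_mem_nil, or_false] at h
        rcases h with rfl | rfl | rfl | rfl <;> assumption
      · exact ((hmemW' u).mp (hin u h)).1
    apply glue_full modelE3 (embOfVec _ hinj8) hxW hyW (emb_mem_of_list _ hinj8 _ rfl hmemW8)
    · intro u hu
      apply range_of_mem_list _ hinj8 _ rfl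
      apply cover_append ι₄ _ _ rfl
      by_cases hur : u ∈ Set.range ι₄
      · exact Or.inl hur
      · exact Or.inr (hall u ((hmemW' u).mpr ⟨hu, hur⟩))
    · intro i
      fin_cases i <;> first | rfl | assumption
    · intro i
      fin_cases i <;> first | rfl | assumption
  · -- the way back
    rintro ⟨z', hz', hz'W, hz'c, ho1, ho2⟩
    have hdz : ∀ e, Perm.Disjoint z' (lift ι₄ e) := disjoint_lift_of_support ι₄ hz'W
    have hdy : ∀ e, Perm.Disjoint y' (lift ι₄ e) := red_disjoint_lift ι₄ dy04 hy4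
    obtain ⟨g1, g2, g3⟩ := mul_lift_invol ι₄ hz' dy04 hz'W hι₄W
    have hz'fix : ∀ u, u ∈ Set.range ι₄ → z' u = u := by
      intro u hu
      by_contra h
      exact ((hmemW' u).mp (hz'W (Perm.mem_support.mpr h))).2 hu
    have hz'b : z' b = b := hz'fix b ⟨0, rfl⟩
    have hz'c' : z' c = c := hz'fix c ⟨1, rfl⟩
    have hz'd : z' d = d := hz'fix d ⟨2, rfl⟩
    have hz'e : z' e = e := hz'fix e ⟨3, rfl⟩
    have hT4 : lift ι₄ y04 = swap b c * swap d e := by
      rw [hy04, lift_mul, lift_swap, lift_swap]; rfl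
    have hT6 : lift ι₆ t06 = swap b c * swap d e := by
      rw [ht06, lift_mul, lift_swap, lift_swap]; rfl
    have hC1 : lift ι₆ (swap 1 3 * swap 3 0) = swap b d * swap d a := by
      rw [lift_mul, lift_swap, lift_swap]; rfl
    have hC2 : lift ι₆ (swap 4 2 * swap 2 5) = swap e c * swap c f := by
      rw [lift_mul, lift_swap, lift_swap]; rfl
    refine ⟨z' * lift ι₄ y04, g1, g2, ?_, ?_, ?_⟩
    · rw [g3, hz'c, cy04]
      have h2 := red_card ι₄ dy04 hy4
      rw [cy04] at h2
      exact h2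
    · -- x * z
      have hzaW' := apply_mem_of_mem_of_support_subset hz' hz'W haW'
      have hzfW' := apply_mem_of_mem_of_support_subset hz' hz'W hfW'
      have hzar : z' a ∉ Set.range ι₄ := ((hmemW' _).mp hzaW').2
      have hzfr : z' f ∉ Set.range ι₄ := ((hmemW' _).mp hzfW').2
      have hzab : z' a ≠ b := fun h => hzar ⟨0, h.symm⟩
      have hzad : z' a ≠ d := fun h => hzar ⟨2, h.symm⟩
      have hzfc : z' f ≠ c := fun h => hzfr ⟨1, h.symm⟩
      have hzfe : z' f ≠ e := fun h => hzfr ⟨3, h.symm⟩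
      have hid : lift ι₆ x06 * lift ι₄ y04 =
          L5 * lift ι₆ (swap 1 3 * swap 3 0) * lift ι₆ (swap 4 2 * swap 2 5) := by
        rw [hT4, ← hT6, hL5, ← lift_mul, ← lift_mul, ← lift_mul, did]
      have hcomm := (hdz y04).commute.eq
      have e1 : x * (z' * lift ι₄ y04) =
          (x₁ * L5 * z') * (swap b d * swap d (z' a)) * (swap e c * swap c (z' f)) := by
        have h1 := contract_identity x₁ (lift ι₆ x06) L5 (lift ι₆ (swap 1 3 * swap 3 0))
          (lift ι₆ (swap 4 2 * swap 2 5)) (lift ι₄ y04) z' hz' hcomm hid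
        rw [hx₁, red_mul_lift ι₆ dx06] at h1
        rw [h1, hC1, hC2, conj_cyc hz', conj_cyc hz', hz'b, hz'd, hz'e, hz'c']
      rw [e1]
      have o1 : Odd (orderOf (x₁ * L5 * z' * (swap b d * swap d (z' a)))) := by
        apply odd_orderOf_mul_cyc _ (z' a) b d hzab hzad nbd _ _ ho1
        · rw [Perm.mul_apply, hz'b, hx'b]
        · rw [Perm.mul_apply, hz'd, hx'd]
      have hzae : z' a ≠ e := fun h => hzar ⟨3, h.symm⟩
      have hzac : z' a ≠ c := fun h => hzar ⟨1, h.symm⟩
      apply odd_orderOf_mul_cyc _ (z' f) e c hzfe hzfc (Ne.symm nce) _ _ o1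
      · rw [Perm.mul_apply, cyc_apply_of_ne b d (z' a) e (Ne.symm nbe) (Ne.symm nde)
          (Ne.symm hzae), Perm.mul_apply, hz'e, hx'e]
      · rw [Perm.mul_apply, cyc_apply_of_ne b d (z' a) c (Ne.symm nbc) ncd
          (Ne.symm hzac), Perm.mul_apply, hz'c', hx'c]
    · -- z * y
      have hcomm := (hdy y04).commute.eq
      have e1 : z' * lift ι₄ y04 * y = z' * y' := by
        calc z' * lift ι₄ y04 * y
            = z' * lift ι₄ y04 * (y' * lift ι₄ y04) := by rw [hy', red_mul_lift ι₄ dy04]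
          _ = z' * (lift ι₄ y04 * y') * lift ι₄ y04 := by simp only [mul_assoc]
          _ = z' * (y' * lift ι₄ y04) * lift ι₄ y04 := by rw [hcomm]
          _ = z' * y' * (lift ι₄ y04 * lift ι₄ y04) := by simp only [mul_assoc]
          _ = _ := by rw [← lift_mul, dy04, lift_one, mul_one]
      rw [e1]; exact ho2

end Cfsg.Agent.Helper59.OddInv
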