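import Cfsg.Agent.Helper59.OddInv.Contract

/-!
# Two involutions with equally many moved points have a common odd neighbour

`good_of_not_bad`: for involutions `x`, `y` supported in `W` and moving equally many points, unless
`W` is a single alternating 4-cycle there is an involution `z` supported in `W`, moving as many
points, with `x * z` and `z * y` of odd order.  (Library for S3265.)
-/

set_option autoImplicit false

namespace Cfsg.Agent.Helper59.OddInv

open Equiv Equiv.Perm

variable {α : Type*} [Fintype α] [DecidableEq α]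

/-- In an irreducible configuration without fixed points, every point lies on an alternating
4-cycle. -/
theorem isC4_of_irreducible {W : Finset α} {x y : Perm α} (hx : x * x = 1) (hy : y * y = 1)
    (hxW : x.support ⊆ W) (hyW : y.support ⊆ W)
    (hxm : ∀ a ∈ W, x a ≠ a) (hym : ∀ a ∈ W, y a ≠ a) (hxy : ∀ a ∈ W, x a ≠ y a)
    (hsite : ¬ ∃ a b c d e f, a ∈ W ∧ [a, b, c, d, e, f].Nodup ∧ x a = b ∧ y b = c ∧ x c = d ∧
      y d = e ∧ x e = f) {a : α} (ha : a ∈ W) : IsC4 x y a := by
  obtain ⟨b, hab⟩ : ∃ b, x a = b := ⟨_, rfl⟩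
  obtain ⟨c, hbc⟩ : ∃ c, y b = c := ⟨_, rfl⟩
  obtain ⟨d, hcd⟩ : ∃ d, x c = d := ⟨_, rfl⟩
  obtain ⟨e, hde⟩ : ∃ e, y d = e := ⟨_, rfl⟩
  obtain ⟨f, hef⟩ : ∃ f, x e = f := ⟨_, rfl⟩
  have hba : x b = a := by rw [← hab]; exact invol_apply hx a
  have hcb : y c = b := by rw [← hbc]; exact invol_apply hy b
  have hdc : x d = c := by rw [← hcd]; exact invol_apply hx c
  have hed : y e = d := by rw [← hde]; exact invol_apply hy d
  have hfe : x f = e := by rw [← hef]; exact invol_apply hx e
  have bW : b ∈ W := hab ▸ apply_mem_of_mem_of_support_subset hx hxW ha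
  have cW : c ∈ W := hbc ▸ apply_mem_of_mem_of_support_subset hy hyW bW
  have dW : d ∈ W := hcd ▸ apply_mem_of_mem_of_support_subset hx hxW cW
  have eW : e ∈ W := hde ▸ apply_mem_of_mem_of_support_subset hy hyW dW
  have nab : a ≠ b := fun h => hxm a ha (hab.trans h.symm)
  have nbc : b ≠ c := fun h => hym b bW (hbc.trans h.symm)
  have ncd : c ≠ d := fun h => hxm c cW (hcd.trans h.symm)
  have nde : d ≠ e := fun h => hym d dW (hde.trans h.symm)
  have nac : a ≠ c := by
    intro h
    apply hxy a ha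
    rw [hab, h, hcb]
  have nbd : b ≠ d := by
    intro h
    apply nac
    rw [← hba, h, hdc]
  have nad : a ≠ d := by
    intro h
    apply nbc
    rw [← hab, h, hdc]
  have hea : e = a := by
    by_contra hea
    have nae : a ≠ e := Ne.symm hea
    have nce : c ≠ e := by
      intro h
      apply nbd
      rw [← hcb, h, hed]
    have nbe : b ≠ e := by
      intro h
      apply ncd
      rw [← hbc, h, hed]
    have nef : e ≠ f := fun h => hxm e eW (hef.trans h.symm)
    have ndf : d ≠ f := by
      intro h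
      apply nce
      rw [← hdc, h, hfe]
    have ncf : c ≠ f := by
      intro h
      apply nde
      rw [← hcd, h, hfe]
    have nbf : b ≠ f := by
      intro h
      apply nae
      rw [← hba, h, hfe]
    have naf : a ≠ f := by
      intro h
      apply nbe
      rw [← hab, h, hfe]
    apply hsite
    refine ⟨a, b, c, d, e, f, ha, ?_, hab, hbc, hcd, hde, hef⟩
    simp [nab, nac, nad, nae, naf, nbc, nbd, nbe, nbf, ncd, nce, ncf, nde, ndf, nef]
  subst hab hbc hcd
  refine ⟨?_, hde.trans hea⟩
  simp [nab, nac, nad, nbc, nbd, ncd]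

/-- The main combinatorial theorem. -/
theorem good_of_not_bad : ∀ n : ℕ, ∀ (W : Finset α) (x y : Perm α), W.card = n →
    x * x = 1 → y * y = 1 → x.support ⊆ W → y.support ⊆ W →
    x.support.card = y.support.card → ¬ Bad W x y → Good W x y := by
  intro n
  induction n using Nat.strong_induction_on with
  | _ n ih =>
  intro W x y hn hx hy hxW hyW hc hbad
  -- a reduction step suffices
  have key : ∀ x y : Perm α, x * x = 1 → y * y = 1 → x.support ⊆ W → y.support ⊆ W →
      x.support.card = y.support.card → Step W x y → Good W x y := by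
    rintro x y hx hy hxW hyW hc ⟨W', x', y', hlt, hx', hy', hxW', hyW', hc', hB, hG⟩
    by_cases hb : Bad W' x' y'
    · exact hB hb
    · exact hG (ih W'.card (hn ▸ hlt) W' x' y' rfl hx' hy' hxW' hyW' hc' hb)
  -- the empty case
  by_cases hW : W = ∅
  · subst hW
    rw [eq_one_of_support_subset_empty hxW, eq_one_of_support_subset_empty hyW]
    exact good_empty
  -- a common fixed point
  by_cases h0 : ∃ p ∈ W, x p = p ∧ y p = p
  · obtain ⟨p, hp, h1, h2⟩ := h0
    exact key x y hx hy hxW hyW hc (step_fixed hx hy hxW hyW hc hp h1 h2)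
  -- a shared transposition
  by_cases h2 : ∃ a ∈ W, x a = y a
  · obtain ⟨a, ha, h⟩ := h2
    have hxa : x a ≠ a := fun h' => h0 ⟨a, ha, h', by rw [← h]; exact h'⟩
    exact key x y hx hy hxW hyW hc (step_shared hx hy hxW hyW hc ha hxa h)
  -- leaves
  by_cases h3 : ∃ p ∈ W, y p = p ∧ y (x p) ≠ x p
  · obtain ⟨p, hp, h1, h2'⟩ := h3
    have hxp : x p ≠ p := fun h' => h0 ⟨p, hp, h', h1⟩
    exact key x y hx hy hxW hyW hc (step_leaf hx hy hxW hyW hc hp h1 hxp h2')
  by_cases h3' : ∃ p ∈ W, x p = p ∧ x (y p) ≠ y p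
  · obtain ⟨p, hp, h1, h2'⟩ := h3'
    have hyp : y p ≠ p := fun h' => h0 ⟨p, hp, h1, h'⟩
    have := key y x hy hx hyW hxW hc.symm (step_leaf hy hx hyW hxW hc.symm hp h1 hyp h2')
    exact this.symm hy hx hc.symm
  -- contraction
  by_cases h4 : ∃ a b c d e f, a ∈ W ∧ [a, b, c, d, e, f].Nodup ∧ x a = b ∧ y b = c ∧ x c = d ∧
      y d = e ∧ x e = f
  · obtain ⟨a, b, c, d, e, f, ha, hnd, e1, e2, e3, e4, e5⟩ := h4
    exact key x y hx hy hxW hyW hc (step_contract hx hy hxW hyW hc ha hnd e1 e2 e3 e4 e5)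
  -- irreducible configurations
  have hxy : ∀ a ∈ W, x a ≠ y a := fun a ha h => h2 ⟨a, ha, h⟩
  by_cases h5 : ∃ a ∈ W, y a = a
  · obtain ⟨a, ha, hya⟩ := h5
    have hxa : x a ≠ a := fun h' => h0 ⟨a, ha, h', hya⟩
    have hyxa : y (x a) = x a := by
      by_contra h
      exact h3 ⟨a, ha, hya, h⟩
    have hex : ∃ c ∈ W, x c = c := by
      by_contra hne
      have hne' : ∀ c ∈ W, x c ≠ c := fun c hcW h => hne ⟨c, hcW, h⟩
      have hsx : x.support = W :=
        Finset.Subset.antisymm hxW (fun c hcW => Perm.mem_support.mpr (hne' c hcW))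
      have hsy : y.support = W := Finset.eq_of_subset_of_card_le hyW (by rw [← hc, hsx])
      have : a ∈ y.support := hsy ▸ ha
      exact (Perm.mem_support.mp this) hya
    obtain ⟨c, hcW, hxc⟩ := hex
    have hyc : y c ≠ c := fun h' => h0 ⟨c, hcW, hxc, h'⟩
    have hxyc : x (y c) = y c := by
      by_contra h
      exact h3' ⟨c, hcW, hxc, h⟩
    exact key x y hx hy hxW hyW hc
      (step_AB hx hy hxW hyW hc ha hcW hya hxa hyxa hxc hyc hxyc)
  have hym : ∀ a ∈ W, y a ≠ a := fun a ha h => h5 ⟨a, ha, h⟩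
  have hxm : ∀ a ∈ W, x a ≠ a := by
    intro a ha hxa
    have hsy : y.support = W :=
      Finset.Subset.antisymm hyW (fun c hcW => Perm.mem_support.mpr (hym c hcW))
    have hsx : x.support = W := Finset.eq_of_subset_of_card_le hxW (by rw [hc, hsy])
    have : a ∈ x.support := hsx ▸ ha
    exact (Perm.mem_support.mp this) hxa
  have hC4 : ∀ a ∈ W, IsC4 x y a := fun a ha =>
    isC4_of_irreducible hx hy hxW hyW hxm hym hxy h4 ha
  obtain ⟨a, ha⟩ := Finset.nonempty_iff_ne_empty.mpr hW
  have hCa := hC4 a ha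
  have hex : ∃ b ∈ W, b ∉ [a, x a, y (x a), x (y (x a))] := by
    by_contra hne
    have hall : ∀ b ∈ W, b ∈ [a, x a, y (x a), x (y (x a))] := by
      intro b hb
      by_contra h
      exact hne ⟨b, hb, h⟩
    apply hbad
    refine ⟨?_, hxm, hym, hxy⟩
    have ha1 : x a ∈ W := apply_mem_of_mem_of_support_subset hx hxW ha
    have ha2 : y (x a) ∈ W := apply_mem_of_mem_of_support_subset hy hyW ha1
    have ha3 : x (y (x a)) ∈ W := apply_mem_of_mem_of_support_subset hx hxW ha2
    have hWeq : W = [a, x a, y (x a), x (y (x a))].toFinset := by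
      ext u
      rw [List.mem_toFinset]
      constructor
      · exact hall u
      · intro hu
        simp only [List.mem_cons, List.not_mem_nil, or_false] at hu
        rcases hu with rfl | rfl | rfl | rfl <;> assumption
    rw [hWeq, List.toFinset_card_of_nodup hCa.1]
    rfl
  obtain ⟨b, hbW, hb⟩ := hex
  exact key x y hx hy hxW hyW hc
    (step_C4C4 hx hy hxW hyW hc ha hbW hCa (hC4 b hbW) hb)

end Cfsg.Agent.Helper59.OddInv
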