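import Cfsg.Agent.Helper59.OddInv.Basic

/-!
# Local models and the gluing lemma (library for S3265)

A configuration on finitely many explicit points is transported from `Fin m` to `α` along an
embedding `ι : Fin m ↪ α` (`lift`).  `red ι x x0 = x * lift ι x0` removes from the involution `x`
the part living on the range of `ι`; `glue` reassembles a solution on `W` from a solution on the
remainder and a (decidable) solution of the model.
-/

set_option autoImplicit false

namespace Cfsg.Agent.Helper59.OddInv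

open Equiv Equiv.Perm

variable {α : Type*} [Fintype α] [DecidableEq α]

/-- Transport of a permutation of `Fin m` along an embedding. -/
noncomputable def lift {m : ℕ} (ι : Fin m ↪ α) (e : Perm (Fin m)) : Perm α := e.viaEmbedding ι

section lift

variable {m : ℕ} (ι : Fin m ↪ α)

omit [Fintype α] [DecidableEq α] in
theorem lift_apply (e : Perm (Fin m)) (i : Fin m) : lift ι e (ι i) = ι (e i) :=
  viaEmbedding_apply e ι i

omit [Fintype α] [DecidableEq α] in
theorem lift_apply_of_notMem (e : Perm (Fin m)) {a : α} (h : a ∉ Set.range ι) :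
    lift ι e a = a :=
  viaEmbedding_apply_of_notMem e ι a h

omit [Fintype α] [DecidableEq α] in
theorem lift_eq_hom (e : Perm (Fin m)) : lift ι e = viaEmbeddingHom ι e := rfl

omit [Fintype α] [DecidableEq α] in
theorem lift_mul (e f : Perm (Fin m)) : lift ι (e * f) = lift ι e * lift ι f := by
  simp only [lift_eq_hom, map_mul]

omit [Fintype α] [DecidableEq α] in
theorem lift_one : lift ι (1 : Perm (Fin m)) = 1 := by
  simp only [lift_eq_hom, map_one]

omit [Fintype α] [DecidableEq α] in
theorem lift_pow (e : Perm (Fin m)) (k : ℕ) : lift ι (e ^ k) = lift ι e ^ k := by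
  simp only [lift_eq_hom, map_pow]

omit [Fintype α] in
theorem lift_swap (i j : Fin m) : lift ι (swap i j) = swap (ι i) (ι j) := by
  ext a
  by_cases ha : a ∈ Set.range ι
  · obtain ⟨k, rfl⟩ := ha
    rw [lift_apply, swap_apply_def, swap_apply_def]
    simp only [ι.injective.eq_iff]
    split_ifs <;> rfl
  · rw [lift_apply_of_notMem ι _ ha]
    have h1 : a ≠ ι i := fun h => ha ⟨i, h.symm⟩
    have h2 : a ≠ ι j := fun h => ha ⟨j, h.symm⟩
    rw [swap_apply_of_ne_of_ne h1 h2]

theorem support_lift (e : Perm (Fin m)) : (lift ι e).support = e.support.map ι := by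
  ext a
  rw [Perm.mem_support, Finset.mem_map]
  constructor
  · intro h
    by_cases ha : a ∈ Set.range ι
    · obtain ⟨k, rfl⟩ := ha
      refine ⟨k, ?_, rfl⟩
      rw [Perm.mem_support]
      intro hk
      apply h
      rw [lift_apply, hk]
    · exact absurd (lift_apply_of_notMem ι e ha) h
  · rintro ⟨k, hk, rfl⟩
    rw [Perm.mem_support] at hk
    rw [lift_apply]
    exact fun h => hk (ι.injective h)

theorem card_support_lift (e : Perm (Fin m)) : (lift ι e).support.card = e.support.card := by
  rw [support_lift, Finset.card_map]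

theorem mem_map_univ_iff {a : α} : a ∈ (Finset.univ : Finset (Fin m)).map ι ↔ a ∈ Set.range ι := by
  simp

end lift

/-- Remove from `x` its part `x0` on the range of `ι`. -/
noncomputable def red {m : ℕ} (ι : Fin m ↪ α) (x : Perm α) (x0 : Perm (Fin m)) : Perm α :=
  x * lift ι x0

section red

variable {m : ℕ} (ι : Fin m ↪ α) {x : Perm α} {x0 : Perm (Fin m)}

omit [Fintype α] [DecidableEq α] in
theorem red_apply_emb (hx0 : x0 * x0 = 1) (hxι : ∀ i, x (ι i) = ι (x0 i)) (i : Fin m) :
    red ι x x0 (ι i) = ι i := by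
  rw [red, Perm.mul_apply, lift_apply, hxι]
  have := congrArg (fun f : Perm (Fin m) => f i) hx0
  simp only [Perm.mul_apply, Perm.one_apply] at this
  rw [this]

omit [Fintype α] [DecidableEq α] in
theorem red_apply_of_notMem {a : α} (ha : a ∉ Set.range ι) : red ι x x0 a = x a := by
  rw [red, Perm.mul_apply, lift_apply_of_notMem ι _ ha]

omit [Fintype α] [DecidableEq α] in
/-- The complement of the range is `x`-closed. -/
theorem apply_notMem_range (hx : x * x = 1) (hxι : ∀ i, x (ι i) = ι (x0 i)) {a : α}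
    (ha : a ∉ Set.range ι) : x a ∉ Set.range ι := by
  rintro ⟨i, hi⟩
  apply ha
  refine ⟨x0 i, ?_⟩
  rw [← hxι, hi]
  have := congrArg (fun f : Perm α => f a) hx
  simpa using this

omit [Fintype α] [DecidableEq α] in
theorem red_mul_self (hx : x * x = 1) (hx0 : x0 * x0 = 1) (hxι : ∀ i, x (ι i) = ι (x0 i)) :
    red ι x x0 * red ι x x0 = 1 := by
  ext a
  rw [Perm.mul_apply, Perm.one_apply]
  by_cases ha : a ∈ Set.range ι
  · obtain ⟨i, rfl⟩ := ha
    rw [red_apply_emb ι hx0 hxι, red_apply_emb ι hx0 hxι]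
  · rw [red_apply_of_notMem ι ha, red_apply_of_notMem ι (apply_notMem_range ι hx hxι ha)]
    have := congrArg (fun f : Perm α => f a) hx
    simpa using this

omit [Fintype α] [DecidableEq α] in
theorem red_mul_lift (hx0 : x0 * x0 = 1) : red ι x x0 * lift ι x0 = x := by
  rw [red, mul_assoc, ← lift_mul, hx0, lift_one, mul_one]

omit [Fintype α] [DecidableEq α] in
theorem red_disjoint_lift (hx0 : x0 * x0 = 1) (hxι : ∀ i, x (ι i) = ι (x0 i))
    (e : Perm (Fin m)) : Perm.Disjoint (red ι x x0) (lift ι e) := by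
  intro a
  by_cases ha : a ∈ Set.range ι
  · obtain ⟨i, rfl⟩ := ha
    exact Or.inl (red_apply_emb ι hx0 hxι i)
  · exact Or.inr (lift_apply_of_notMem ι e ha)

theorem red_support_subset (hx0 : x0 * x0 = 1) (hxι : ∀ i, x (ι i) = ι (x0 i))
    {W : Finset α} (hxW : x.support ⊆ W) :
    (red ι x x0).support ⊆ W \ (Finset.univ : Finset (Fin m)).map ι := by
  intro a ha
  rw [Perm.mem_support] at ha
  have h1 : a ∉ Set.range ι := by
    rintro ⟨i, rfl⟩
    exact ha (red_apply_emb ι hx0 hxι i)
  rw [Finset.mem_sdiff, mem_map_univ_iff]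
  refine ⟨hxW ?_, h1⟩
  rw [Perm.mem_support, ← red_apply_of_notMem ι h1 (x0 := x0)]
  exact ha

theorem red_card (hx0 : x0 * x0 = 1) (hxι : ∀ i, x (ι i) = ι (x0 i)) :
    (red ι x x0).support.card + x0.support.card = x.support.card := by
  have h := (red_disjoint_lift ι hx0 hxι x0).card_support_mul
  rw [red_mul_lift ι hx0, card_support_lift] at h
  exact h.symm

end red

/-- A solved local configuration on `Fin m`. -/
structure Model (m : ℕ) where
  x0 : Perm (Fin m)
  y0 : Perm (Fin m)
  z0 : Perm (Fin m)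
  k1 : ℕ
  k2 : ℕ
  hx0 : x0 * x0 = 1
  hy0 : y0 * y0 = 1
  hz0 : z0 * z0 = 1
  hcx : x0.support.card = y0.support.card
  hcz : z0.support.card = y0.support.card
  hk1 : Odd k1
  hk2 : Odd k2
  h1 : (x0 * z0) ^ k1 = 1
  h2 : (z0 * y0) ^ k2 = 1

section glue

variable {m : ℕ} (M : Model m) (ι : Fin m ↪ α) {W : Finset α} {x y : Perm α}

theorem red_card_eq (hc : x.support.card = y.support.card)
    (hxι : ∀ i, x (ι i) = ι (M.x0 i)) (hyι : ∀ i, y (ι i) = ι (M.y0 i)) :
    (red ι x M.x0).support.card = (red ι y M.y0).support.card := by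
  have h1 := red_card ι M.hx0 hxι
  have h2 := red_card ι M.hy0 hyι
  have h3 := M.hcx
  omega

/-- A permutation supported off the range of `ι` is disjoint from every lift. -/
theorem disjoint_lift_of_support {z' : Perm α}
    (hz' : z'.support ⊆ W \ (Finset.univ : Finset (Fin m)).map ι) (e : Perm (Fin m)) :
    Perm.Disjoint z' (lift ι e) := by
  intro a
  by_cases ha : a ∈ Set.range ι
  · left
    by_contra h
    have := hz' (Perm.mem_support.mpr h)
    rw [Finset.mem_sdiff, mem_map_univ_iff] at this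
    exact this.2 ha
  · exact Or.inr (lift_apply_of_notMem ι e ha)

theorem odd_orderOf_mul_lift {r : Perm α} {e : Perm (Fin m)} {k : ℕ} (hk : Odd k)
    (he : e ^ k = 1) (hr : Odd (orderOf r)) (hd : Perm.Disjoint r (lift ι e)) :
    Odd (orderOf (r * lift ι e)) := by
  rw [hd.orderOf]
  have h2 : Odd (orderOf (lift ι e)) := by
    apply odd_orderOf_of_pow_eq_one _ k hk
    rw [← lift_pow, he, lift_one]
  exact Odd.of_dvd_nat (hr.mul h2) (Nat.lcm_dvd_mul _ _)

/-- Gluing: a solution for the reduced pair on the remainder gives a solution on `W`. -/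
theorem glue (hιW : ∀ i, ι i ∈ W)
    (hxι : ∀ i, x (ι i) = ι (M.x0 i)) (hyι : ∀ i, y (ι i) = ι (M.y0 i))
    (h : Good (W \ (Finset.univ : Finset (Fin m)).map ι) (red ι x M.x0) (red ι y M.y0)) :
    Good W x y := by
  obtain ⟨z', hz', hz'W, hz'c, ho1, ho2⟩ := h
  have hdz : ∀ e, Perm.Disjoint z' (lift ι e) := disjoint_lift_of_support ι hz'W
  have hdx : ∀ e, Perm.Disjoint (red ι x M.x0) (lift ι e) := red_disjoint_lift ι M.hx0 hxι
  have hdy : ∀ e, Perm.Disjoint (red ι y M.y0) (lift ι e) := red_disjoint_lift ι M.hy0 hyι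
  refine ⟨z' * lift ι M.z0, ?_, ?_, ?_, ?_, ?_⟩
  · have hcomm := (hdz M.z0).commute.eq
    calc z' * lift ι M.z0 * (z' * lift ι M.z0)
        = z' * (lift ι M.z0 * z') * lift ι M.z0 := by simp only [mul_assoc]
      _ = z' * (z' * lift ι M.z0) * lift ι M.z0 := by rw [hcomm]
      _ = (z' * z') * (lift ι M.z0 * lift ι M.z0) := by simp only [mul_assoc]
      _ = 1 := by rw [hz', ← lift_mul, M.hz0, lift_one, one_mul]
  · intro a ha
    have := Perm.support_mul_le _ _ ha
    rw [Finset.sup_eq_union, Finset.mem_union] at this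
    rcases this with h | h
    · exact (Finset.mem_sdiff.mp (hz'W h)).1
    · rw [support_lift, Finset.mem_map] at h
      obtain ⟨i, _, rfl⟩ := h
      exact hιW i
  · rw [(hdz M.z0).card_support_mul, card_support_lift, hz'c, M.hcz]
    exact red_card ι M.hy0 hyι
  · -- x * z = (x' * z') * lift (x0 * z0)
    have hcomm := (hdz M.x0).commute.eq
    have e1 : x * (z' * lift ι M.z0) = (red ι x M.x0 * z') * lift ι (M.x0 * M.z0) := by
      calc x * (z' * lift ι M.z0)
          = red ι x M.x0 * lift ι M.x0 * (z' * lift ι M.z0) := by rw [red_mul_lift ι M.hx0]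
        _ = red ι x M.x0 * (lift ι M.x0 * z') * lift ι M.z0 := by simp only [mul_assoc]
        _ = red ι x M.x0 * (z' * lift ι M.x0) * lift ι M.z0 := by rw [hcomm]
        _ = (red ι x M.x0 * z') * (lift ι M.x0 * lift ι M.z0) := by simp only [mul_assoc]
        _ = _ := by rw [← lift_mul]
    rw [e1]
    exact odd_orderOf_mul_lift ι M.hk1 M.h1 ho1 ((hdx _).mul_left (hdz _))
  · have hcomm := (hdy M.z0).commute.eq
    have e1 : z' * lift ι M.z0 * y = (z' * red ι y M.y0) * lift ι (M.z0 * M.y0) := by
      calc z' * lift ι M.z0 * y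
          = z' * lift ι M.z0 * (red ι y M.y0 * lift ι M.y0) := by rw [red_mul_lift ι M.hy0]
        _ = z' * (lift ι M.z0 * red ι y M.y0) * lift ι M.y0 := by simp only [mul_assoc]
        _ = z' * (red ι y M.y0 * lift ι M.z0) * lift ι M.y0 := by rw [hcomm]
        _ = (z' * red ι y M.y0) * (lift ι M.z0 * lift ι M.y0) := by simp only [mul_assoc]
        _ = _ := by rw [← lift_mul]
    rw [e1]
    exact odd_orderOf_mul_lift ι M.hk2 M.h2 ho2 ((hdz _).mul_left (hdy _))

/-- Full model: if the range of `ι` covers `W`, the model solves the problem. -/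
theorem glue_full (hx : x.support ⊆ W) (hy : y.support ⊆ W) (hιW : ∀ i, ι i ∈ W)
    (hcover : ∀ a ∈ W, a ∈ Set.range ι)
    (hxι : ∀ i, x (ι i) = ι (M.x0 i)) (hyι : ∀ i, y (ι i) = ι (M.y0 i)) :
    Good W x y := by
  apply glue M ι hιW hxι hyι
  have hempty : W \ (Finset.univ : Finset (Fin m)).map ι = ∅ := by
    rw [Finset.sdiff_eq_empty_iff_subset]
    intro a ha
    rw [mem_map_univ_iff]
    exact hcover a ha
  have h1 := red_support_subset ι M.hx0 hxι hx
  have h2 := red_support_subset ι M.hy0 hyι hy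
  rw [hempty] at h1 h2 ⊢
  rw [eq_one_of_support_subset_empty h1, eq_one_of_support_subset_empty h2]
  exact good_empty

end glue

end Cfsg.Agent.Helper59.OddInv
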