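import Cfsg.Agent.Helper59.OddInv.Model

/-!
# Explicit solved configurations (library for S3265)

The eight models used by the reduction, embeddings from explicit vectors, and the structure of
the exceptional configuration `Bad` (a single alternating 4-cycle).
-/

set_option autoImplicit false
set_option maxRecDepth 100000

namespace Cfsg.Agent.Helper59.OddInv

open Equiv Equiv.Perm

variable {α : Type*} [Fintype α] [DecidableEq α]

/-- shared transposition `[a, x a]` -/
def modelR2 : Model 2 where
  x0 := swap 0 1
  y0 := swap 0 1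
  z0 := swap 0 1
  k1 := 1
  k2 := 1
  hx0 := by decide
  hy0 := by decide
  hz0 := by decide
  hcx := by decide
  hcz := by decide
  hk1 := by decide
  hk2 := by decide
  h1 := by decide
  h2 := by decide

/-- an `x`-edge `[a, x a]` fixed by `y` and a `y`-edge `[c, y c]` fixed by `x` -/
def modelE4 : Model 4 where
  x0 := swap 0 1
  y0 := swap 2 3
  z0 := swap 1 2
  k1 := 3
  k2 := 3
  hx0 := by decide
  hy0 := by decide
  hz0 := by decide
  hcx := by decide
  hcz := by decide
  hk1 := by decide
  hk2 := by decide
  h1 := by decide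
  h2 := by decide

/-- two alternating 4-cycles -/
def modelE6 : Model 8 where
  x0 := swap 0 1 * swap 2 3 * swap 4 5 * swap 6 7
  y0 := swap 1 2 * swap 3 0 * swap 5 6 * swap 7 4
  z0 := swap 0 1 * swap 2 4 * swap 3 7 * swap 5 6
  k1 := 3
  k2 := 3
  hx0 := by decide
  hy0 := by decide
  hz0 := by decide
  hcx := by decide
  hcz := by decide
  hk1 := by decide
  hk2 := by decide
  h1 := by decide
  h2 := by decide

/-- a common fixed point and an alternating 4-cycle -/
def modelE1 : Model 5 where
  x0 := swap 1 2 * swap 3 4
  y0 := swap 2 3 * swap 4 1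
  z0 := swap 0 1 * swap 3 4
  k1 := 3
  k2 := 5
  hx0 := by decide
  hy0 := by decide
  hz0 := by decide
  hcx := by decide
  hcz := by decide
  hk1 := by decide
  hk2 := by decide
  h1 := by decide
  h2 := by decide

/-- a shared transposition and an alternating 4-cycle -/
def modelE2 : Model 6 where
  x0 := swap 0 1 * swap 2 3 * swap 4 5
  y0 := swap 0 1 * swap 3 4 * swap 5 2
  z0 := swap 0 2 * swap 1 4 * swap 3 5
  k1 := 3
  k2 := 3
  hx0 := by decide
  hy0 := by decide
  hz0 := by decide
  hcx := by decide
  hcz := by decide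
  hk1 := by decide
  hk2 := by decide
  h1 := by decide
  h2 := by decide

/-- an `x`-edge, a `y`-edge and an alternating 4-cycle -/
def modelE5 : Model 8 where
  x0 := swap 0 1 * swap 4 5 * swap 6 7
  y0 := swap 2 3 * swap 5 6 * swap 7 4
  z0 := swap 1 2 * swap 3 4 * swap 6 7
  k1 := 3
  k2 := 7
  hx0 := by decide
  hy0 := by decide
  hz0 := by decide
  hcx := by decide
  hcz := by decide
  hk1 := by decide
  hk2 := by decide
  h1 := by decide
  h2 := by decide

/-- three alternating 4-cycles -/
def modelE7 : Model 12 where
  x0 := swap 0 1 * swap 2 3 * swap 4 5 * swap 6 7 * swap 8 9 * swap 10 11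
  y0 := swap 1 2 * swap 3 0 * swap 5 6 * swap 7 4 * swap 9 10 * swap 11 8
  z0 := swap 0 1 * swap 2 4 * swap 3 7 * swap 5 8 * swap 6 10 * swap 9 11
  k1 := 5
  k2 := 3
  hx0 := by decide
  hy0 := by decide
  hz0 := by decide
  hcx := by decide
  hcz := by decide
  hk1 := by decide
  hk2 := by decide
  h1 := by decide
  h2 := by decide

/-- an alternating 8-cycle `a b c d e f g h`, listed as `[b, c, d, e, a, f, g, h]` -/
def modelE3 : Model 8 where
  x0 := swap 4 0 * swap 1 2 * swap 3 5 * swap 6 7
  y0 := swap 0 1 * swap 2 3 * swap 5 6 * swap 7 4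
  z0 := swap 0 1 * swap 2 5 * swap 3 4 * swap 6 7
  k1 := 3
  k2 := 3
  hx0 := by decide
  hy0 := by decide
  hz0 := by decide
  hcx := by decide
  hcz := by decide
  hk1 := by decide
  hk2 := by decide
  h1 := by decide
  h2 := by decide

/-- Embedding from an injective vector. -/
def embOfVec {m : ℕ} (v : Fin m → α) (h : Function.Injective v) : Fin m ↪ α := ⟨v, h⟩

omit [Fintype α] [DecidableEq α] in
theorem embOfVec_apply {m : ℕ} (v : Fin m → α) (h : Function.Injective v) (i : Fin m) :
    embOfVec v h i = v i := rfl

omit [Fintype α] [DecidableEq α] in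
/-- Appending to the points of an embedding a duplicate-free list avoiding its range. -/
theorem nodup_ofFn_append {m : ℕ} (ι : Fin m ↪ α) (l : List α) (hl : l.Nodup)
    (hd : ∀ u ∈ l, u ∉ Set.range ι) : (List.ofFn ι ++ l).Nodup := by
  rw [List.nodup_append]
  refine ⟨List.nodup_ofFn.mpr ι.injective, hl, ?_⟩
  intro u hu v hv huv
  rw [List.mem_ofFn] at hu
  subst huv
  exact hd u hv hu

/-- The alternating 4-cycle through `a`: `a -x- x a -y- y (x a) -x- x (y (x a)) -y- a`. -/
def IsC4 (x y : Perm α) (a : α) : Prop :=
  [a, x a, y (x a), x (y (x a))].Nodup ∧ y (x (y (x a))) = a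

theorem IsC4.y_apply {x y : Perm α} {a : α} (h : IsC4 x y a) (hy : y * y = 1) :
    y a = x (y (x a)) := by
  have := congrArg y h.2
  rw [invol_apply hy] at this
  exact this.symm

/-- Structure of the exceptional configuration. -/
theorem bad_isC4 {W : Finset α} {x y : Perm α} (hx : x * x = 1) (hy : y * y = 1)
    (hxW : x.support ⊆ W) (hyW : y.support ⊆ W) (hbad : Bad W x y) {a : α} (ha : a ∈ W) :
    IsC4 x y a ∧ (∀ u ∈ W, u ∈ [a, x a, y (x a), x (y (x a))]) ∧
      (∀ u ∈ [a, x a, y (x a), x (y (x a))], u ∈ W) := by
  obtain ⟨hcard, hxm, hym, hxy⟩ := hbad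
  have hb : x a ∈ W := apply_mem_of_mem_of_support_subset hx hxW ha
  have hc : y (x a) ∈ W := apply_mem_of_mem_of_support_subset hy hyW hb
  have hd : x (y (x a)) ∈ W := apply_mem_of_mem_of_support_subset hx hxW hc
  have hab : a ≠ x a := fun h => hxm a ha h.symm
  have hbc : x a ≠ y (x a) := fun h => hym _ hb h.symm
  have hcd : y (x a) ≠ x (y (x a)) := fun h => hxm _ hc h.symm
  have hac : a ≠ y (x a) := by
    intro h
    apply hxy a ha
    have := congrArg y h
    rw [invol_apply hy] at this
    exact this.symm
  have hbd : x a ≠ x (y (x a)) := by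
    intro h
    exact hac (x.injective h)
  have had : a ≠ x (y (x a)) := by
    intro h
    have := congrArg x h
    rw [invol_apply hx] at this
    exact hbc this
  have hnd : [a, x a, y (x a), x (y (x a))].Nodup := by
    simp [hab, hac, had, hbc, hbd, hcd]
  have hsub : ({a, x a, y (x a), x (y (x a))} : Finset α) ⊆ W := by
    intro u hu
    simp only [Finset.mem_insert, Finset.mem_singleton] at hu
    rcases hu with rfl | rfl | rfl | rfl <;> assumption
  have hc4 : ({a, x a, y (x a), x (y (x a))} : Finset α).card = 4 := by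
    rw [Finset.card_insert_of_notMem, Finset.card_insert_of_notMem,
      Finset.card_insert_of_notMem, Finset.card_singleton]
    · simpa using hcd
    · simp only [Finset.mem_insert, Finset.mem_singleton, not_or]; exact ⟨hbc, hbd⟩
    · simp only [Finset.mem_insert, Finset.mem_singleton, not_or]; exact ⟨hab, hac, had⟩
  have hWeq : ({a, x a, y (x a), x (y (x a))} : Finset α) = W :=
    Finset.eq_of_subset_of_card_le hsub (by rw [hcard, hc4])
  have hmem : ∀ u ∈ W, u ∈ [a, x a, y (x a), x (y (x a))] := by
    intro u hu
    rw [← hWeq] at hu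
    simpa using hu
  refine ⟨⟨hnd, ?_⟩, hmem, ?_⟩
  · have he : y (x (y (x a))) ∈ W := apply_mem_of_mem_of_support_subset hy hyW hd
    have := hmem _ he
    simp only [List.mem_cons, List.not_mem_nil, or_false] at this
    rcases this with h | h | h | h
    · exact h
    · exfalso
      -- y d = b → d = y b = c
      have h2 := congrArg y h
      rw [invol_apply hy] at h2
      exact hcd h2.symm
    · exfalso
      -- y d = c → d = y c = b
      have h2 := congrArg y h
      rw [invol_apply hy, invol_apply hy] at h2
      exact hbd h2.symm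
    · exact absurd h (hym _ hd)
  · intro u hu
    simp only [List.mem_cons, List.not_mem_nil, or_false] at hu
    rcases hu with rfl | rfl | rfl | rfl <;> assumption

end Cfsg.Agent.Helper59.OddInv
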