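import Cfsg.Agent.Helper59.OddInv.Models

/-!
# Reduction steps (library for S3265)

Each lemma `step_*` produces a strictly smaller instance `(W', x', y')` of the problem together
with the way back, and an explicit solution when the smaller instance is exceptional.
-/

set_option autoImplicit false
set_option maxRecDepth 100000

namespace Cfsg.Agent.Helper59.OddInv

open Equiv Equiv.Perm

variable {α : Type*} [Fintype α] [DecidableEq α]

/-- One reduction step. -/
def Step (W : Finset α) (x y : Perm α) : Prop :=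
  ∃ (W' : Finset α) (x' y' : Perm α), W'.card < W.card ∧ x' * x' = 1 ∧ y' * y' = 1 ∧
    x'.support ⊆ W' ∧ y'.support ⊆ W' ∧ x'.support.card = y'.support.card ∧
    (Bad W' x' y' → Good W x y) ∧ (Good W' x' y' → Good W x y)

omit [Fintype α] [DecidableEq α] in
theorem range_of_mem_list {m : ℕ} (v : Fin m → α) (h : Function.Injective v) (l : List α)
    (hl : List.ofFn v = l) {u : α} (hu : u ∈ l) : u ∈ Set.range (embOfVec v h) := by
  rw [← hl, List.mem_ofFn] at hu
  exact hu

omit [Fintype α] [DecidableEq α] in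
theorem emb_mem_of_list {m : ℕ} (v : Fin m → α) (h : Function.Injective v) (l : List α)
    (hl : List.ofFn v = l) {W : Finset α} (hW : ∀ u ∈ l, u ∈ W) (i : Fin m) :
    embOfVec v h i ∈ W := by
  apply hW
  rw [← hl, List.mem_ofFn]
  exact ⟨i, rfl⟩

theorem step_of_model {m : ℕ} (M : Model m) (hm : 0 < m) (ι : Fin m ↪ α) {W : Finset α}
    {x y : Perm α} (hx : x * x = 1) (hy : y * y = 1) (hxW : x.support ⊆ W)
    (hyW : y.support ⊆ W) (hc : x.support.card = y.support.card) (hιW : ∀ i, ι i ∈ W)
    (hxι : ∀ i, x (ι i) = ι (M.x0 i)) (hyι : ∀ i, y (ι i) = ι (M.y0 i))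
    (hbad : Bad (W \ (Finset.univ : Finset (Fin m)).map ι) (red ι x M.x0) (red ι y M.y0) →
      Good W x y) : Step W x y := by
  refine ⟨W \ (Finset.univ : Finset (Fin m)).map ι, red ι x M.x0, red ι y M.y0, ?_,
    red_mul_self ι hx M.hx0 hxι, red_mul_self ι hy M.hy0 hyι,
    red_support_subset ι M.hx0 hxι hxW, red_support_subset ι M.hy0 hyι hyW,
    red_card_eq M ι hc hxι hyι, hbad, glue M ι hιW hxι hyι⟩
  apply Finset.card_lt_card
  apply Finset.sdiff_ssubset
  · intro a ha
    rw [Finset.mem_map] at ha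
    obtain ⟨i, _, rfl⟩ := ha
    exact hιW i
  · exact ⟨ι ⟨0, hm⟩, Finset.mem_map_of_mem _ (Finset.mem_univ _)⟩

omit [Fintype α] [DecidableEq α] in
theorem isC4_of_red {m : ℕ} (ι : Fin m ↪ α) {x y : Perm α} {x0 y0 : Perm (Fin m)}
    (hx : x * x = 1) (hy : y * y = 1)
    (hxι : ∀ i, x (ι i) = ι (x0 i)) (hyι : ∀ i, y (ι i) = ι (y0 i)) {a : α}
    (ha : a ∉ Set.range ι) (h : IsC4 (red ι x x0) (red ι y y0) a) : IsC4 x y a := by
  have h1 : red ι x x0 a = x a := red_apply_of_notMem ι ha
  have hb : x a ∉ Set.range ι := apply_notMem_range ι hx hxι ha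
  have h2 : red ι y y0 (x a) = y (x a) := red_apply_of_notMem ι hb
  have hc : y (x a) ∉ Set.range ι := apply_notMem_range ι hy hyι hb
  have h3 : red ι x x0 (y (x a)) = x (y (x a)) := red_apply_of_notMem ι hc
  have hd : x (y (x a)) ∉ Set.range ι := apply_notMem_range ι hx hxι hc
  have h4 : red ι y y0 (x (y (x a))) = y (x (y (x a))) := red_apply_of_notMem ι hd
  unfold IsC4 at h ⊢
  rw [h1, h2, h3, h4] at h
  exact h

/-- The exceptional remainder of a model step, in terms of `x`, `y`. -/
theorem bad_red_isC4 {m : ℕ} (M : Model m) (ι : Fin m ↪ α) {W : Finset α} {x y : Perm α}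
    (hx : x * x = 1) (hy : y * y = 1) (hxW : x.support ⊆ W) (hyW : y.support ⊆ W)
    (hxι : ∀ i, x (ι i) = ι (M.x0 i)) (hyι : ∀ i, y (ι i) = ι (M.y0 i))
    (hbad : Bad (W \ (Finset.univ : Finset (Fin m)).map ι) (red ι x M.x0) (red ι y M.y0)) :
    ∃ a : α, IsC4 x y a ∧
      (∀ u ∈ W, u ∈ Set.range ι ∨ u ∈ [a, x a, y (x a), x (y (x a))]) ∧
      (∀ u ∈ [a, x a, y (x a), x (y (x a))], u ∈ W ∧ u ∉ Set.range ι) := by
  have hne : (W \ (Finset.univ : Finset (Fin m)).map ι).Nonempty := by
    rw [← Finset.card_pos, hbad.1]; norm_num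
  obtain ⟨a, ha⟩ := hne
  have ha' : a ∉ Set.range ι := by
    rw [Finset.mem_sdiff, mem_map_univ_iff] at ha; exact ha.2
  obtain ⟨hC, hall, hin⟩ := bad_isC4 (red_mul_self ι hx M.hx0 hxι) (red_mul_self ι hy M.hy0 hyι)
    (red_support_subset ι M.hx0 hxι hxW) (red_support_subset ι M.hy0 hyι hyW) hbad ha
  have h1 : red ι x M.x0 a = x a := red_apply_of_notMem ι ha'
  have hb : x a ∉ Set.range ι := apply_notMem_range ι hx hxι ha'
  have h2 : red ι y M.y0 (x a) = y (x a) := red_apply_of_notMem ι hb
  have hc : y (x a) ∉ Set.range ι := apply_notMem_range ι hy hyι hb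
  have h3 : red ι x M.x0 (y (x a)) = x (y (x a)) := red_apply_of_notMem ι hc
  rw [h1, h2, h3] at hall hin
  refine ⟨a, isC4_of_red ι hx hy hxι hyι ha' hC, ?_, ?_⟩
  · intro u hu
    by_cases hur : u ∈ Set.range ι
    · exact Or.inl hur
    · right
      apply hall
      rw [Finset.mem_sdiff, mem_map_univ_iff]
      exact ⟨hu, hur⟩
  · intro u hu
    have := hin u hu
    rw [Finset.mem_sdiff, mem_map_univ_iff] at this
    exact this


theorem IsC4.rels {x y : Perm α} {a : α} (h : IsC4 x y a) (hx : x * x = 1) (hy : y * y = 1) :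
    x (x a) = a ∧ x (x (y (x a))) = y (x a) ∧ y (y (x a)) = x a ∧ y a = x (y (x a)) ∧
      y (x (y (x a))) = a :=
  ⟨invol_apply hx _, invol_apply hx _, invol_apply hy _, h.y_apply hy, h.2⟩

/-- R1: a common fixed point. -/
theorem step_fixed {W : Finset α} {x y : Perm α} (hx : x * x = 1) (hy : y * y = 1)
    (hxW : x.support ⊆ W) (hyW : y.support ⊆ W) (hc : x.support.card = y.support.card)
    {p : α} (hp : p ∈ W) (hxp : x p = p) (hyp : y p = p) : Step W x y := by
  have hxW' : x.support ⊆ W.erase p := by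
    intro a ha
    rw [Finset.mem_erase]
    refine ⟨?_, hxW ha⟩
    rintro rfl
    exact (Perm.mem_support.mp ha) hxp
  have hyW' : y.support ⊆ W.erase p := by
    intro a ha
    rw [Finset.mem_erase]
    refine ⟨?_, hyW ha⟩
    rintro rfl
    exact (Perm.mem_support.mp ha) hyp
  refine ⟨W.erase p, x, y, Finset.card_erase_lt_of_mem hp, hx, hy, hxW', hyW', hc, ?_,
    fun h => h.mono (Finset.erase_subset _ _)⟩
  intro hbad
  have hne : (W.erase p).Nonempty := by
    rw [← Finset.card_pos, hbad.1]; norm_num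
  obtain ⟨a, ha⟩ := hne
  obtain ⟨hC, hall, hin⟩ := bad_isC4 hx hy hxW' hyW' hbad ha
  obtain ⟨r1, r2, r3, r4, r5⟩ := hC.rels hx hy
  have hnd : [p, a, x a, y (x a), x (y (x a))].Nodup := by
    rw [List.nodup_cons]
    exact ⟨fun h => (Finset.mem_erase.mp (hin p h)).1 rfl, hC.1⟩
  have hinj : Function.Injective ![p, a, x a, y (x a), x (y (x a))] := List.nodup_ofFn.mp hnd
  have hmemW : ∀ u ∈ [p, a, x a, y (x a), x (y (x a))], u ∈ W := by
    intro u hu
    rcases List.mem_cons.mp hu with rfl | hu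
    · exact hp
    · exact Finset.mem_of_mem_erase (hin u hu)
  apply glue_full modelE1 (embOfVec _ hinj) hxW hyW (emb_mem_of_list _ hinj _ rfl hmemW)
  · intro u hu
    apply range_of_mem_list _ hinj _ rfl
    by_cases hup : u = p
    · rw [hup]; exact List.mem_cons_self
    · exact List.mem_cons_of_mem _ (hall u (Finset.mem_erase.mpr ⟨hup, hu⟩))
  · intro i
    fin_cases i <;> first | rfl | assumption
  · intro i
    fin_cases i <;> first | rfl | assumption

/-- R2: a shared transposition. -/
theorem step_shared {W : Finset α} {x y : Perm α} (hx : x * x = 1) (hy : y * y = 1)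
    (hxW : x.support ⊆ W) (hyW : y.support ⊆ W) (hc : x.support.card = y.support.card)
    {a : α} (ha : a ∈ W) (hxa : x a ≠ a) (hxy : x a = y a) : Step W x y := by
  have hb : x a ∈ W := apply_mem_of_mem_of_support_subset hx hxW ha
  have e1 : x (x a) = a := invol_apply hx a
  have e2 : y a = x a := hxy.symm
  have e3 : y (x a) = a := by rw [hxy]; exact invol_apply hy a
  have hnd : [a, x a].Nodup := by simp [hxa.symm]
  have hinj : Function.Injective ![a, x a] := List.nodup_ofFn.mp hnd
  have hmemW : ∀ u ∈ [a, x a], u ∈ W := by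
    intro u hu
    simp only [List.mem_cons, List.not_mem_nil, or_false] at hu
    rcases hu with rfl | rfl <;> assumption
  have hxι : ∀ i, x (embOfVec ![a, x a] hinj i) = embOfVec ![a, x a] hinj (modelR2.x0 i) := by
    intro i
    fin_cases i <;> first | rfl | assumption
  have hyι : ∀ i, y (embOfVec ![a, x a] hinj i) = embOfVec ![a, x a] hinj (modelR2.y0 i) := by
    intro i
    fin_cases i <;> first | rfl | assumption
  apply step_of_model modelR2 (by norm_num) (embOfVec _ hinj) hx hy hxW hyW hc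
    (emb_mem_of_list _ hinj _ rfl hmemW) hxι hyι
  intro hbad
  obtain ⟨a0, hC, hall, hin⟩ := bad_red_isC4 modelR2 _ hx hy hxW hyW hxι hyι hbad
  obtain ⟨r1, r2, r3, r4, r5⟩ := hC.rels hx hy
  have hnd2 : [a, x a, a0, x a0, y (x a0), x (y (x a0))].Nodup :=
    nodup_ofFn_append (embOfVec ![a, x a] hinj) _ hC.1 (fun u hu => (hin u hu).2)
  have hinj2 : Function.Injective ![a, x a, a0, x a0, y (x a0), x (y (x a0))] :=
    List.nodup_ofFn.mp hnd2
  have hmemW2 : ∀ u ∈ [a, x a, a0, x a0, y (x a0), x (y (x a0))], u ∈ W := by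
    intro u hu
    rcases List.mem_cons.mp hu with rfl | hu
    · exact ha
    rcases List.mem_cons.mp hu with rfl | hu
    · exact hb
    · exact (hin u hu).1
  apply glue_full modelE2 (embOfVec _ hinj2) hxW hyW (emb_mem_of_list _ hinj2 _ rfl hmemW2)
  · intro u hu
    apply range_of_mem_list _ hinj2 _ rfl
    rcases hall u hu with h | h
    · obtain ⟨i, rfl⟩ := h
      fin_cases i
      · exact List.mem_cons_self
      · exact List.mem_cons_of_mem _ List.mem_cons_self
    · exact List.mem_cons_of_mem _ (List.mem_cons_of_mem _ h)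
  · intro i
    fin_cases i <;> first | rfl | assumption
  · intro i
    fin_cases i <;> first | rfl | assumption


omit [Fintype α] [DecidableEq α] in
theorem cover_append {m : ℕ} (ι : Fin m ↪ α) (l₂ l : List α) (hl : List.ofFn ι ++ l₂ = l)
    {u : α} (h : u ∈ Set.range ι ∨ u ∈ l₂) : u ∈ l := by
  rw [← hl, List.mem_append, List.mem_ofFn]
  exact h

/-- R5a: an `x`-edge fixed by `y` together with a `y`-edge fixed by `x`. -/
theorem step_AB {W : Finset α} {x y : Perm α} (hx : x * x = 1) (hy : y * y = 1)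
    (hxW : x.support ⊆ W) (hyW : y.support ⊆ W) (hc : x.support.card = y.support.card)
    {a c : α} (ha : a ∈ W) (hcW : c ∈ W) (hya : y a = a) (hxa : x a ≠ a)
    (hyxa : y (x a) = x a) (hxc : x c = c) (hyc : y c ≠ c) (hxyc : x (y c) = y c) :
    Step W x y := by
  have hb : x a ∈ W := apply_mem_of_mem_of_support_subset hx hxW ha
  have hd : y c ∈ W := apply_mem_of_mem_of_support_subset hy hyW hcW
  have e1 : x (x a) = a := invol_apply hx a
  have e2 : y (y c) = c := invol_apply hy c
  have n1 : a ≠ c := by rintro rfl; exact hxa hxc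
  have n2 : a ≠ y c := by
    intro h
    have := congrArg y h
    rw [hya, e2] at this
    exact n1 this
  have n3 : x a ≠ c := by
    intro h
    have := congrArg x h
    rw [e1, hxc] at this
    exact n1 this
  have n4 : x a ≠ y c := by
    intro h
    have := congrArg y h
    rw [hyxa, e2] at this
    exact n3 this
  have hnd : [a, x a, c, y c].Nodup := by
    simp [hxa.symm, n1, n2, n3, n4, hyc.symm]
  have hinj : Function.Injective ![a, x a, c, y c] := List.nodup_ofFn.mp hnd
  have hmemW : ∀ u ∈ [a, x a, c, y c], u ∈ W := by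
    intro u hu
    simp only [List.mem_cons, List.not_mem_nil, or_false] at hu
    rcases hu with rfl | rfl | rfl | rfl <;> assumption
  have hxι : ∀ i, x (embOfVec ![a, x a, c, y c] hinj i) =
      embOfVec ![a, x a, c, y c] hinj (modelE4.x0 i) := by
    intro i
    fin_cases i <;> first | rfl | assumption
  have hyι : ∀ i, y (embOfVec ![a, x a, c, y c] hinj i) =
      embOfVec ![a, x a, c, y c] hinj (modelE4.y0 i) := by
    intro i
    fin_cases i <;> first | rfl | assumption
  apply step_of_model modelE4 (by norm_num) (embOfVec _ hinj) hx hy hxW hyW hc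
    (emb_mem_of_list _ hinj _ rfl hmemW) hxι hyι
  intro hbad
  obtain ⟨a0, hC, hall, hin⟩ := bad_red_isC4 modelE4 _ hx hy hxW hyW hxι hyι hbad
  obtain ⟨r1, r2, r3, r4, r5⟩ := hC.rels hx hy
  have hnd2 : [a, x a, c, y c, a0, x a0, y (x a0), x (y (x a0))].Nodup :=
    nodup_ofFn_append (embOfVec ![a, x a, c, y c] hinj) _ hC.1 (fun u hu => (hin u hu).2)
  have hinj2 : Function.Injective ![a, x a, c, y c, a0, x a0, y (x a0), x (y (x a0))] :=
    List.nodup_ofFn.mp hnd2
  have hmemW2 : ∀ u ∈ [a, x a, c, y c, a0, x a0, y (x a0), x (y (x a0))], u ∈ W := by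
    intro u hu
    have : u ∈ [a, x a, c, y c] ++ [a0, x a0, y (x a0), x (y (x a0))] := hu
    rcases List.mem_append.mp this with h | h
    · exact hmemW u h
    · exact (hin u h).1
  apply glue_full modelE5 (embOfVec _ hinj2) hxW hyW (emb_mem_of_list _ hinj2 _ rfl hmemW2)
  · intro u hu
    apply range_of_mem_list _ hinj2 _ rfl
    exact cover_append (embOfVec ![a, x a, c, y c] hinj) _ _ rfl (hall u hu)
  · intro i
    fin_cases i <;> first | rfl | assumption
  · intro i
    fin_cases i <;> first | rfl | assumption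

/-- R5b: two distinct alternating 4-cycles. -/
theorem step_C4C4 {W : Finset α} {x y : Perm α} (hx : x * x = 1) (hy : y * y = 1)
    (hxW : x.support ⊆ W) (hyW : y.support ⊆ W) (hc : x.support.card = y.support.card)
    {a b : α} (ha : a ∈ W) (hbW : b ∈ W) (hCa : IsC4 x y a) (hCb : IsC4 x y b)
    (hb : b ∉ [a, x a, y (x a), x (y (x a))]) : Step W x y := by
  obtain ⟨p1, p2, p3, p4, p5⟩ := hCa.rels hx hy
  obtain ⟨q1, q2, q3, q4, q5⟩ := hCb.rels hx hy
  have ha1 : x a ∈ W := apply_mem_of_mem_of_support_subset hx hxW ha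
  have ha2 : y (x a) ∈ W := apply_mem_of_mem_of_support_subset hy hyW ha1
  have ha3 : x (y (x a)) ∈ W := apply_mem_of_mem_of_support_subset hx hxW ha2
  have hb1 : x b ∈ W := apply_mem_of_mem_of_support_subset hx hxW hbW
  have hb2 : y (x b) ∈ W := apply_mem_of_mem_of_support_subset hy hyW hb1
  have hb3 : x (y (x b)) ∈ W := apply_mem_of_mem_of_support_subset hx hxW hb2
  -- the first 4-cycle as a closed piece
  have hinj1 : Function.Injective ![a, x a, y (x a), x (y (x a))] := List.nodup_ofFn.mp hCa.1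
  have hx1 : ∀ i, x (embOfVec ![a, x a, y (x a), x (y (x a))] hinj1 i) =
      embOfVec ![a, x a, y (x a), x (y (x a))] hinj1 ((swap 0 1 * swap 2 3 : Perm (Fin 4)) i) := by
    intro i
    fin_cases i <;> first | rfl | assumption
  have hy1 : ∀ i, y (embOfVec ![a, x a, y (x a), x (y (x a))] hinj1 i) =
      embOfVec ![a, x a, y (x a), x (y (x a))] hinj1 ((swap 1 2 * swap 3 0 : Perm (Fin 4)) i) := by
    intro i
    fin_cases i <;> first | rfl | assumption
  have hbr : b ∉ Set.range (embOfVec ![a, x a, y (x a), x (y (x a))] hinj1) := by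
    intro h
    apply hb
    have := (List.mem_ofFn (f := ![a, x a, y (x a), x (y (x a))])).mpr h
    exact this
  have hbr1 := apply_notMem_range _ hx hx1 hbr
  have hbr2 := apply_notMem_range _ hy hy1 hbr1
  have hbr3 := apply_notMem_range _ hx hx1 hbr2
  have hnd : [a, x a, y (x a), x (y (x a)), b, x b, y (x b), x (y (x b))].Nodup := by
    apply nodup_ofFn_append (embOfVec ![a, x a, y (x a), x (y (x a))] hinj1) _ hCb.1
    intro u hu
    simp only [List.mem_cons, List.not_mem_nil, or_false] at hu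
    rcases hu with rfl | rfl | rfl | rfl <;> assumption
  have hinj : Function.Injective ![a, x a, y (x a), x (y (x a)), b, x b, y (x b), x (y (x b))] :=
    List.nodup_ofFn.mp hnd
  have hmemW : ∀ u ∈ [a, x a, y (x a), x (y (x a)), b, x b, y (x b), x (y (x b))], u ∈ W := by
    intro u hu
    simp only [List.mem_cons, List.not_mem_nil, or_false] at hu
    rcases hu with rfl | rfl | rfl | rfl | rfl | rfl | rfl | rfl <;> assumption
  have hxι : ∀ i, x (embOfVec _ hinj i) = embOfVec _ hinj (modelE6.x0 i) := by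
    intro i
    fin_cases i <;> first | rfl | assumption
  have hyι : ∀ i, y (embOfVec _ hinj i) = embOfVec _ hinj (modelE6.y0 i) := by
    intro i
    fin_cases i <;> first | rfl | assumption
  apply step_of_model modelE6 (by norm_num) (embOfVec _ hinj) hx hy hxW hyW hc
    (emb_mem_of_list _ hinj _ rfl hmemW) hxι hyι
  intro hbad
  obtain ⟨a0, hC, hall, hin⟩ := bad_red_isC4 modelE6 _ hx hy hxW hyW hxι hyι hbad
  obtain ⟨r1, r2, r3, r4, r5⟩ := hC.rels hx hy
  have hnd2 : [a, x a, y (x a), x (y (x a)), b, x b, y (x b), x (y (x b)),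
      a0, x a0, y (x a0), x (y (x a0))].Nodup :=
    nodup_ofFn_append (embOfVec _ hinj) _ hC.1 (fun u hu => (hin u hu).2)
  have hinj2 : Function.Injective ![a, x a, y (x a), x (y (x a)), b, x b, y (x b), x (y (x b)),
      a0, x a0, y (x a0), x (y (x a0))] :=
    List.nodup_ofFn.mp hnd2
  have hmemW2 : ∀ u ∈ [a, x a, y (x a), x (y (x a)), b, x b, y (x b), x (y (x b)),
      a0, x a0, y (x a0), x (y (x a0))], u ∈ W := by
    intro u hu
    have : u ∈ [a, x a, y (x a), x (y (x a)), b, x b, y (x b), x (y (x b))] ++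
        [a0, x a0, y (x a0), x (y (x a0))] := hu
    rcases List.mem_append.mp this with h | h
    · exact hmemW u h
    · exact (hin u h).1
  apply glue_full modelE7 (embOfVec _ hinj2) hxW hyW (emb_mem_of_list _ hinj2 _ rfl hmemW2)
  · intro u hu
    apply range_of_mem_list _ hinj2 _ rfl
    exact cover_append (embOfVec _ hinj) _ _ rfl (hall u hu)
  · intro i
    fin_cases i <;> first | rfl | assumption
  · intro i
    fin_cases i <;> first | rfl | assumption


/-- Inserting the fixed points `p`, `q` of `r` after `s` (3-cycle `s ↦ p ↦ q ↦ s`). -/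
theorem odd_orderOf_mul_cyc (r : Perm α) (s p q : α) (hsp : s ≠ p) (hsq : s ≠ q) (hpq : p ≠ q)
    (hrp : r p = p) (hrq : r q = q) (hr : Odd (orderOf r)) :
    Odd (orderOf (r * (swap p q * swap q s))) := by
  apply odd_orderOf_insert_two r _ s p q hsp hsq hpq hrp hrq _ _ _ _ hr
  · rw [Perm.mul_apply, swap_apply_right, swap_apply_right]
  · rw [Perm.mul_apply, swap_apply_of_ne_of_ne hpq hsp.symm, swap_apply_left]
  · rw [Perm.mul_apply, swap_apply_left, swap_apply_of_ne_of_ne hsp hsq]
  · intro a h1 h2 h3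
    rw [Perm.mul_apply, swap_apply_of_ne_of_ne h3 h1, swap_apply_of_ne_of_ne h2 h3]

/-- R3: a leaf `p` (fixed by `y`) whose `x`-neighbour is moved by `y`. -/
theorem step_leaf {W : Finset α} {x y : Perm α} (hx : x * x = 1) (hy : y * y = 1)
    (hxW : x.support ⊆ W) (hyW : y.support ⊆ W) (hc : x.support.card = y.support.card)
    {p : α} (hp : p ∈ W) (hyp : y p = p) (hxp : x p ≠ p) (hyq : y (x p) ≠ x p) :
    Step W x y := by
  have hq : x p ∈ W := apply_mem_of_mem_of_support_subset hx hxW hp
  have hq' : y (x p) ∈ W := apply_mem_of_mem_of_support_subset hy hyW hq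
  have e1 : x (x p) = p := invol_apply hx p
  have e2 : y (y (x p)) = x p := invol_apply hy _
  have n1 : p ≠ y (x p) := by
    intro h
    have := congrArg y h
    rw [hyp, e2] at this
    exact hxp this.symm
  have hnd1 : [p, x p].Nodup := by simp [hxp.symm]
  have hnd2 : [x p, y (x p)].Nodup := by simp [hyq.symm]
  have hinj1 : Function.Injective ![p, x p] := List.nodup_ofFn.mp hnd1
  have hinj2 : Function.Injective ![x p, y (x p)] := List.nodup_ofFn.mp hnd2
  set ι₁ := embOfVec ![p, x p] hinj1 with hι₁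
  set ι₂ := embOfVec ![x p, y (x p)] hinj2 with hι₂
  have hs : (swap 0 1 : Perm (Fin 2)) * swap 0 1 = 1 := by decide
  have hscard : (swap 0 1 : Perm (Fin 2)).support.card = 2 := by decide
  have hx1 : ∀ i, x (ι₁ i) = ι₁ ((swap 0 1 : Perm (Fin 2)) i) := by
    intro i
    fin_cases i <;> first | rfl | assumption
  have hy2 : ∀ i, y (ι₂ i) = ι₂ ((swap 0 1 : Perm (Fin 2)) i) := by
    intro i
    fin_cases i <;> first | rfl | assumption
  have hι₁W : ∀ i, ι₁ i ∈ W := by
    intro i
    fin_cases i <;> assumption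
  have hpr2 : p ∉ Set.range ι₂ := by
    rintro ⟨i, hi⟩
    fin_cases i
    · exact hxp hi
    · exact n1 hi.symm
  have hy'p : red ι₂ y (swap 0 1) p = p := by rw [red_apply_of_notMem ι₂ hpr2, hyp]
  have hy'q : red ι₂ y (swap 0 1) (x p) = x p := red_apply_emb ι₂ hs hy2 0
  have hy'q' : red ι₂ y (swap 0 1) (y (x p)) = y (x p) := red_apply_emb ι₂ hs hy2 1
  have hy'W : (red ι₂ y (swap 0 1)).support ⊆ W \ (Finset.univ : Finset (Fin 2)).map ι₁ := by
    intro u hu
    have h1 := red_support_subset ι₂ hs hy2 hyW hu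
    rw [Finset.mem_sdiff, mem_map_univ_iff] at h1 ⊢
    refine ⟨h1.1, ?_⟩
    rintro ⟨i, hi⟩
    rw [Perm.mem_support] at hu
    fin_cases i
    · apply hu; rw [← hi]; exact hy'p
    · apply hu; rw [← hi]; exact hy'q
  have hdy : ∀ e, Perm.Disjoint (red ι₂ y (swap 0 1)) (lift ι₁ e) := by
    intro e a
    by_cases ha : a ∈ Set.range ι₁
    · left
      obtain ⟨i, rfl⟩ := ha
      fin_cases i
      · exact hy'p
      · exact hy'q
    · exact Or.inr (lift_apply_of_notMem ι₁ e ha)
  refine ⟨W \ (Finset.univ : Finset (Fin 2)).map ι₁, red ι₁ x (swap 0 1), red ι₂ y (swap 0 1),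
    ?_, red_mul_self ι₁ hx hs hx1, red_mul_self ι₂ hy hs hy2,
    red_support_subset ι₁ hs hx1 hxW, hy'W, ?_, ?_, ?_⟩
  · apply Finset.card_lt_card
    apply Finset.sdiff_ssubset
    · intro a ha
      rw [Finset.mem_map] at ha
      obtain ⟨i, _, rfl⟩ := ha
      exact hι₁W i
    · exact ⟨ι₁ 0, Finset.mem_map_of_mem _ (Finset.mem_univ _)⟩
  · have h1 := red_card ι₁ hs hx1
    have h2 := red_card ι₂ hs hy2
    omega
  · intro hbad
    exfalso
    refine hbad.2.2.1 (y (x p)) ?_ hy'q'
    rw [Finset.mem_sdiff, mem_map_univ_iff]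
    refine ⟨hq', ?_⟩
    rintro ⟨i, hi⟩
    fin_cases i
    · exact n1 hi
    · exact hyq hi.symm
  · rintro ⟨z', hz', hz'W, hz'c, ho1, ho2⟩
    have hdz : ∀ e, Perm.Disjoint z' (lift ι₁ e) := disjoint_lift_of_support ι₁ hz'W
    have hz'p : z' p = p := by
      by_contra h
      have := hz'W (Perm.mem_support.mpr h)
      rw [Finset.mem_sdiff, mem_map_univ_iff] at this
      exact this.2 ⟨0, rfl⟩
    have hz'q : z' (x p) = x p := by
      by_contra h
      have := hz'W (Perm.mem_support.mpr h)
      rw [Finset.mem_sdiff, mem_map_univ_iff] at this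
      exact this.2 ⟨1, rfl⟩
    refine ⟨z' * lift ι₁ (swap 0 1), ?_, ?_, ?_, ?_, ?_⟩
    · have hcomm := (hdz (swap 0 1)).commute.eq
      calc z' * lift ι₁ (swap 0 1) * (z' * lift ι₁ (swap 0 1))
          = z' * (lift ι₁ (swap 0 1) * z') * lift ι₁ (swap 0 1) := by simp only [mul_assoc]
        _ = z' * (z' * lift ι₁ (swap 0 1)) * lift ι₁ (swap 0 1) := by rw [hcomm]
        _ = (z' * z') * (lift ι₁ (swap 0 1) * lift ι₁ (swap 0 1)) := by simp only [mul_assoc]
        _ = 1 := by rw [hz', ← lift_mul, hs, lift_one, one_mul]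
    · intro a ha
      have := Perm.support_mul_le _ _ ha
      rw [Finset.sup_eq_union, Finset.mem_union] at this
      rcases this with h | h
      · exact (Finset.mem_sdiff.mp (hz'W h)).1
      · rw [support_lift, Finset.mem_map] at h
        obtain ⟨i, _, rfl⟩ := h
        exact hι₁W i
    · rw [(hdz _).card_support_mul, card_support_lift, hz'c, hscard]
      have h2 := red_card ι₂ hs hy2
      omega
    · have hcomm := (hdz (swap 0 1)).commute.eq
      have e : x * (z' * lift ι₁ (swap 0 1)) = red ι₁ x (swap 0 1) * z' := by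
        calc x * (z' * lift ι₁ (swap 0 1))
            = red ι₁ x (swap 0 1) * lift ι₁ (swap 0 1) * (z' * lift ι₁ (swap 0 1)) := by
              rw [red_mul_lift ι₁ hs]
          _ = red ι₁ x (swap 0 1) * (lift ι₁ (swap 0 1) * z') * lift ι₁ (swap 0 1) := by
              simp only [mul_assoc]
          _ = red ι₁ x (swap 0 1) * (z' * lift ι₁ (swap 0 1)) * lift ι₁ (swap 0 1) := by
              rw [hcomm]
          _ = red ι₁ x (swap 0 1) * z' * (lift ι₁ (swap 0 1) * lift ι₁ (swap 0 1)) := by
              simp only [mul_assoc]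
          _ = _ := by rw [← lift_mul, hs, lift_one, mul_one]
      rw [e]; exact ho1
    · have hcomm := (hdy (swap 0 1)).commute.eq
      have e : z' * lift ι₁ (swap 0 1) * y =
          (z' * red ι₂ y (swap 0 1)) * (swap p (x p) * swap (x p) (y (x p))) := by
        have l1 : lift ι₁ (swap 0 1) = swap p (x p) := lift_swap ι₁ 0 1
        have l2 : lift ι₂ (swap 0 1) = swap (x p) (y (x p)) := lift_swap ι₂ 0 1
        calc z' * lift ι₁ (swap 0 1) * y
            = z' * lift ι₁ (swap 0 1) * (red ι₂ y (swap 0 1) * lift ι₂ (swap 0 1)) := by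
              rw [red_mul_lift ι₂ hs]
          _ = z' * (lift ι₁ (swap 0 1) * red ι₂ y (swap 0 1)) * lift ι₂ (swap 0 1) := by
              simp only [mul_assoc]
          _ = z' * (red ι₂ y (swap 0 1) * lift ι₁ (swap 0 1)) * lift ι₂ (swap 0 1) := by
              rw [hcomm]
          _ = (z' * red ι₂ y (swap 0 1)) * (lift ι₁ (swap 0 1) * lift ι₂ (swap 0 1)) := by
              simp only [mul_assoc]
          _ = _ := by rw [l1, l2]
      rw [e]
      apply odd_orderOf_mul_cyc _ (y (x p)) p (x p) n1.symm hyq hxp.symm _ _ ho2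
      · rw [Perm.mul_apply, hy'p, hz'p]
      · rw [Perm.mul_apply, hy'q, hz'q]

end Cfsg.Agent.Helper59.OddInv
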